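import Cfsg.Agent.Len.End
import Cfsg.Agent.Transfer.Focal

/-! The case of a component whose centre has even order. -/

set_option autoImplicit false

namespace Cfsg.Agent.Len

open Subgroup Cfsg.Agent.PLocal.Amb Cfsg.Agent.FGS.CT2 Cfsg.Agent.Inv
open scoped commutatorElement

variable {G : Type*} [Group G] [Finite G]

theorem shape_of_equiv {K : Type*} [Group K] [Finite K] [IsSimpleGroup K]
    (hK : ¬ IsMulCommutative K) (h6 : ¬ LG K 6) (P : Sylow 2 K) {D : Subgroup G}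
    (e : D ≃* (P : Subgroup K)) :
    (Nat.card D ≤ 8 ∧ ∀ x ∈ D, x * x = 1) ∨ ∃ k, Nonempty (DC D k) := by
  rcases shape hK h6 P with ⟨h1, h2⟩ | ⟨n, hn, ⟨f⟩⟩
  · refine Or.inl ⟨(Nat.card_congr e.toEquiv).trans_le h1.le, fun x hx => ?_⟩
    have : (⟨x, hx⟩ : D) * ⟨x, hx⟩ = 1 := e.injective (by
      rw [map_mul, map_one]; exact Subtype.ext (h2 _ (e _).2))
    exact congrArg Subtype.val this
  · rcases kleinFour_or_DC (P.isPGroup'.of_equiv e.symm) hn (e.trans f) with h | ⟨k, -, h⟩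
    · exact Or.inl ⟨by rw [h.card_four]; omega, fun x hx => Klein.mul_self h hx⟩
    · exact Or.inr ⟨k, h⟩

theorem one_class (hG : commutator G = ⊤) (P : Sylow 2 G)
    (sh : (Nat.card P ≤ 8 ∧ ∀ x ∈ (P : Subgroup G), x * x = 1) ∨
      ∃ k, Nonempty (DC (P : Subgroup G) k)) {x y : G} (hx : orderOf x = 2) (hy : orderOf y = 2) :
    IsConj x y := by
  rcases sh with ⟨h1, h2⟩ | ⟨k, ⟨c⟩⟩
  · obtain ⟨g, hg⟩ := exists_conj_involution_mem_sylow P hx
    obtain ⟨k, hk⟩ := exists_conj_involution_mem_sylow P hy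
    obtain ⟨n, -, e⟩ := trans_of_ab (L := ⊤) hG (isSyl_top P)
      (Misc.comm_of_sq fun a ha => by rw [pow_two, h2 a ha]) h1 hg hk
      (by rintro e; rw [conj_eq_one_iff] at e; simp [e] at hx)
      (by rintro e; rw [conj_eq_one_iff] at e; simp [e] at hy)
    exact (isConj_iff.2 ⟨g, rfl⟩).trans ((isConj_iff.2 ⟨n, e⟩).trans (isConj_iff.2 ⟨k, rfl⟩).symm)
  · have h1 : ∀ a, IsConj (c.r (2 ^ (k + 1))) (c.s a) := fun a => by
      by_contra hn
      obtain ⟨H, hH⟩ := c.exists_index_two hn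
      exact index_ne_two hG H hH
    exact (c.isConj_of_all (h1 0) (h1 _) hx).trans (c.isConj_of_all (h1 0) (h1 _) hy).symm

omit [Finite G] in
/-- a group with a central subgroup of index four has a cyclic derived group -/
theorem commutator_le_zpowers {Q Z : Subgroup G} (hZ : Z ≤ center G) (hZQ : Z ≤ Q)
    (h : ¬ Ch Z Q 3) {a b : G} (ha : a ∈ Q) (hb : b ∈ Q) (hab : ⁅a, b⁆ ≠ 1)
    (hk : ⁅a, b⁆ ∈ center G) : ⁅Q, Q⁆ ≤ zpowers ⁅a, b⁆ := by
  have gen : ∀ H : Subgroup G, Z ≤ H → a ∈ H → b ∈ H → Q ≤ H := fun H h1 h2 h3 => by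
    by_contra hn
    have h4 : Z ≤ 𝐙[a] := fun x hx => mem_centralizer_singleton_iff.2 (mem_center_iff.1 (hZ hx) a).symm
    refine h (((Ch.one (B := Q ⊓ H ⊓ 𝐙[a]) (lt_of_le_of_ne (le_inf (le_inf hZQ h1) h4) fun e =>
      hab ?_)).step (lt_of_le_of_ne inf_le_left fun e => hab ?_)).step
      (lt_of_le_of_ne inf_le_left fun e => hn (e.ge.trans inf_le_right))) <;>
      rw [commutatorElement_eq_one_iff_mul_comm]
    · exact (mem_center_iff.1 (hZ (e.ge ⟨⟨ha, h2⟩, mem_centralizer_singleton_iff.2 rfl⟩)) b).symm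
    · exact (mem_centralizer_singleton_iff.1 (e.ge ⟨hb, h3⟩).2).symm
  have : (zpowers ⁅a, b⁆).Normal := ⟨fun x hx g => by
    rwa [mem_center_iff.1 (zpowers_le.2 hk hx) g, mul_inv_cancel_right]⟩
  let φ := QuotientGroup.mk' (zpowers ⁅a, b⁆)
  have hφ : ∀ x y, x ∈ (𝐙[φ y]).comap φ ↔ ⁅x, y⁆ ∈ zpowers ⁅a, b⁆ := fun x y => by
    rw [mem_comap, mem_centralizer_singleton_iff, ← commutatorElement_eq_one_iff_mul_comm,
      ← map_commutatorElement, QuotientGroup.mk'_apply, QuotientGroup.eq_one_iff]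
  have hZ' : ∀ y, Z ≤ (𝐙[φ y]).comap φ := fun y x hx => (hφ x y).2 (by
    rw [commutatorElement_eq_one_iff_mul_comm.2 (mem_center_iff.1 (hZ hx) y).symm]
    exact one_mem _)
  have sw : ∀ x y, ⁅x, y⁆ ∈ zpowers ⁅a, b⁆ → ⁅y, x⁆ ∈ zpowers ⁅a, b⁆ := fun x y e => by
    rw [← commutatorElement_inv x y]; exact inv_mem e
  have h1 := gen _ (hZ' a) ((hφ a a).2 (by simp)) ((hφ b a).2 (sw _ _ (mem_zpowers _)))
  have h2 := gen _ (hZ' b) ((hφ a b).2 (mem_zpowers _)) ((hφ b b).2 (by simp))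
  exact commutator_le.2 fun x hx y hy => (hφ x y).1 (gen _ (hZ' y)
    ((hφ a y).2 (sw _ _ ((hφ y a).1 (h1 hy)))) ((hφ b y).2 (sw _ _ ((hφ y b).1 (h2 hy)))) hx)

omit [Finite G] in
theorem comm_eq_sq (x y : G) : ⁅x, y⁆ = (x * x) * (x⁻¹ * y * (x⁻¹ * y)) * (y⁻¹ * y⁻¹) := by
  rw [commutatorElement_def]; group

theorem uniq_inv (hp : commutator G = ⊤) {N : Subgroup G} [N.Normal] (hN : N ≤ center G)
    [IsSimpleGroup (G ⧸ N)] (hK : ¬ IsMulCommutative (G ⧸ N)) (h6 : ¬ LG (G ⧸ N) 6)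
    (h5 : 2 ^ 2 ∣ Nat.card N → ¬ LG (G ⧸ N) 5) {u : G} (uN : u ∈ N) (uu : u * u = 1) (u1 : u ≠ 1) :
    (∀ v : G, v * v = 1 → v = 1 ∨ v = u) ∧ ∀ Q : Sylow 2 G, ∃ x ∈ (Q : Subgroup G), x * x = u := by
  let φ := QuotientGroup.mk' N
  have hφ : ∀ x, φ x = 1 ↔ x ∈ N := fun x => QuotientGroup.eq_one_iff x
  have inQ : ∀ (Q : Sylow 2 G) (n : G), n ∈ N → (∃ k, n ^ 2 ^ k = 1) → n ∈ (Q : Subgroup G) :=
    fun Q n hn e => mem_sylow_of_mem_normalizer Q (isPGroup_zpowers e) (center_le_normalizer _ (hN hn))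
  have der : ∀ (Q : Sylow 2 G), ∀ n ∈ N, n ∈ (Q : Subgroup G) → n ∈ ⁅(Q : Subgroup G), (Q : Subgroup G)⁆ :=
    fun Q n hn e => Transfer.mem_commutator_of_hall_of_central Q.card_coprime_index e (hN hn)
      (hp ▸ mem_top n)
  have uQ : ∀ Q : Sylow 2 G, u ∈ (Q : Subgroup G) := fun Q => inQ Q u uN ⟨1, by simpa [sq] using uu⟩
  have nab : ∀ Q : Sylow 2 G, ∃ a ∈ (Q : Subgroup G), ∃ b ∈ (Q : Subgroup G), ⁅a, b⁆ ≠ 1 := by
    intro Q
    by_contra! hn
    exact u1 (mem_bot.1 ((commutator_le.2 fun a ha b hb => mem_bot.2 (hn a ha b hb))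
      (der Q u uN (uQ Q))))
  obtain ⟨Q⟩ : Nonempty (Sylow 2 G) := inferInstance
  let P := Q.mapSurjective (QuotientGroup.mk'_surjective N)
  have hP : ∀ x ∈ (Q : Subgroup G), φ x ∈ (P : Subgroup (G ⧸ N)) := fun x hx => ⟨x, hx, rfl⟩
  have sh := shape_of_equiv hK h6 P (MulEquiv.refl _)
  have s1 : ∀ n ∈ N, n ∈ (Q : Subgroup G) → n = 1 ∨ n = u := by
    intro n hn nQ
    by_contra! hc
    have h4 : 2 ^ 2 ∣ Nat.card ↥(N ⊓ Q) := dvd_of_ch (a := 0) (n := 2) (A := ⊥)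
      (Q.isPGroup'.to_le inf_le_right) ((Ch.one (B := zpowers u) (bot_lt_iff_ne_bot.2
        (by simpa using u1))).step (lt_of_le_of_ne (zpowers_le.2 ⟨uN, uQ Q⟩) fun e =>
          ((Misc.mem_zpowers_two uu).1 (e.ge ⟨hn, nQ⟩)).elim hc.1 hc.2)) (by simp)
    have h8 : ¬ 2 ^ 3 ∣ Nat.card P := fun e => h5 (h4.trans (card_dvd_of_le inf_le_left))
      (lg_of_pow (not_solv hK) le_rfl (e.trans (card_subgroup_dvd_card _)))
    have sq : ∀ x ∈ (Q : Subgroup G), x * x ∈ N := fun x hx => by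
      rcases sh with ⟨-, h⟩ | ⟨k, ⟨c⟩⟩
      · rw [← hφ, map_mul, h _ (hP x hx)]
      · exact absurd (c.card ▸ pow_dvd_pow 2 (by omega)) h8
    obtain ⟨a, ha, b, hb, hab⟩ := nab Q
    have hk : ⁅a, b⁆ ∈ center G := hN (by
      rw [comm_eq_sq]
      exact mul_mem (mul_mem (sq a ha) (sq _ (mul_mem (inv_mem ha) hb))) (sq _ (inv_mem hb)))
    have h3 := commutator_le_zpowers (Z := N ⊓ Q) (inf_le_left.trans hN) inf_le_right (fun e => h8 (by
      have h1 := e.card_le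
      have h2 := relIndex_mul_relIndex ⊥ (N ⊓ Q) Q bot_le inf_le_right
      rw [relIndex_bot_left, relIndex_bot_left, inf_relIndex_right, ← QuotientGroup.ker_mk' N,
        relIndex_ker, QuotientGroup.ker_mk'] at h2
      rw [← h2] at h1
      exact Misc.pow_dvd_card_of_le P.isPGroup' (Nat.le_of_mul_le_mul_left h1 Nat.card_pos)))
      ha hb hab hk
    have kk : ⁅a, b⁆ * ⁅a, b⁆ = 1 := by
      have e1 := mem_center_iff.1 (hN (sq a ha)) b
      have e2 := mem_center_iff.1 hk a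
      calc ⁅a, b⁆ * ⁅a, b⁆ = a * ⁅a, b⁆ * a⁻¹ * ⁅a, b⁆ := by rw [e2]; group
        _ = a * a * b * (a * a)⁻¹ * b⁻¹ := by simp only [commutatorElement_def]; group
        _ = 1 := by rw [← e1]; group
    rcases (Misc.mem_zpowers_two kk).1 (h3 (der Q u uN (uQ Q))) with e | e
    · exact u1 e
    · exact ((Misc.mem_zpowers_two kk).1 (h3 (der Q n hn nQ))).elim hc.1 (e ▸ hc.2)
  have s2 : ∀ v : G, v * v = 1 → v = 1 ∨ v = u := by
    intro v vv
    by_contra! hc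
    have vN : v ∉ N := fun e => (s1 v e (inQ Q v e ⟨1, by simpa [sq] using vv⟩)).elim hc.1 hc.2
    have sq : ∀ x ∈ (Q : Subgroup G), x * x ∈ N → x * x = 1 := fun x hx e => by
      by_cases xN : x ∈ N
      · rcases s1 x xN hx with e | e <;> simp [e, uu]
      obtain ⟨g, hg⟩ := isConj_iff.1 (one_class (perfect_of_simple hK) P sh (x := φ v) (y := φ x)
        (orderOf_eq_prime (by rw [pow_two, ← map_mul, vv, map_one]) fun e => vN ((hφ v).1 e))
        (orderOf_eq_prime (by rwa [pow_two, ← map_mul, hφ]) fun e => xN ((hφ x).1 e)))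
      obtain ⟨g, rfl⟩ := QuotientGroup.mk'_surjective N g
      have h1 : x * (g * v * g⁻¹)⁻¹ ∈ N := by
        rw [← hφ, map_mul, ← hg]; simp [φ]
      have h2 : x * x = x * (g * v * g⁻¹)⁻¹ * (x * (g * v * g⁻¹)⁻¹) := by
        have := mem_center_iff.1 (hN h1) (g * v * g⁻¹)
        rw [inv_mul_cancel_right] at this
        rw [mul_assoc x, mul_right_inj]
        conv_lhs => rw [← this]
        rw [mul_left_inj, eq_inv_iff_mul_eq_one, conj_mul, vv]; simp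
      generalize x * (g * v * g⁻¹)⁻¹ = n at h1 h2
      have h3 : n ^ 2 ^ 2 = 1 := by
        rw [show n ^ 2 ^ 2 = n * n * (n * n) by simp [pow_succ, mul_assoc], ← h2]
        rcases s1 _ e (mul_mem hx hx) with e | e <;> simp [e, uu]
      rw [h2]
      rcases s1 n h1 (inQ Q n h1 ⟨2, h3⟩) with e | e <;> simp [e, uu]
    obtain ⟨ρ, hρ, h1⟩ : ∃ ρ ∈ (Q : Subgroup G), ∀ x ∈ (Q : Subgroup G),
        x * x ∈ zpowers (ρ * ρ) := by
      rcases sh with ⟨-, h⟩ | ⟨k, ⟨c⟩⟩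
      · exact ⟨1, one_mem _, fun x hx => by
          rw [sq x hx (by rw [← hφ, map_mul, h _ (hP x hx)])]; exact one_mem _⟩
      obtain ⟨ρ, hρ, e⟩ := c.r_mem 1
      refine ⟨ρ, hρ, fun x hx => ?_⟩
      rcases c.cases (hP x hx) with h | ⟨i, h⟩
      · obtain ⟨m, hm⟩ := c.mem_zpowers_r_one.2 h
        have h2 : x * (ρ ^ m)⁻¹ ∈ N := by
          rw [← hφ, map_mul, ← hm, ← e]; simp [φ]
        refine ⟨m, ?_⟩
        change (ρ * ρ) ^ m = x * x
        rw [(Commute.refl ρ).mul_zpow]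
        rcases s1 _ h2 (mul_mem hx (inv_mem (zpow_mem hρ m))) with e | e <;>
          rw [mul_inv_eq_iff_eq_mul] at e <;> rw [e]
        · simp
        · rw [mul_assoc, ← mul_assoc _ u, mem_center_iff.1 (hN uN) (ρ ^ m), ← mul_assoc,
            ← mul_assoc, uu, one_mul]
      · rw [sq x hx (by rw [← hφ, map_mul, h, c.s_mul_self])]; exact one_mem _
    obtain ⟨m, hm⟩ := (commutator_le.2 fun x hx y hy => by
      rw [comm_eq_sq]
      exact mul_mem (mul_mem (h1 x hx) (h1 _ (mul_mem (inv_mem hx) hy))) (h1 _ (inv_mem hy)) :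
        ⁅(Q : Subgroup G), (Q : Subgroup G)⁆ ≤ zpowers (ρ * ρ)) (der Q u uN (uQ Q))
    change (ρ * ρ) ^ m = u at hm
    rw [(Commute.refl ρ).mul_zpow] at hm
    exact u1 (hm ▸ sq _ (zpow_mem hρ m) (hm ▸ uN))
  refine ⟨s2, fun Q => ?_⟩
  obtain ⟨r, hr, h1, h2⟩ := exists_sq_mem' (S := zpowers u) Q.isPGroup' fun e => by
    obtain ⟨a, ha, b, hb, hab⟩ := nab Q
    exact hab (commutatorElement_eq_one_iff_mul_comm.2
      (mem_center_iff.1 (hN (zpowers_le.2 uN (e hb))) a))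
  refine ⟨r, hr, ((Misc.mem_zpowers_two uu).1 h2).resolve_left fun e => h1 ?_⟩
  exact (Misc.mem_zpowers_two uu).2 (s2 r e)

theorem Cf.rank_two {u : G} {S L : Subgroup G} (h : Cf u S) (Ln : 𝐙[u] ≤ 𝐍[L]) (LC : L ≤ 𝐙[u])
    (c5 : Ch ⊥ L 5) (un : ∀ v ∈ L, v * v = 1 → v = 1 ∨ v = u) (sq : ∃ x ∈ S, x * x = u) :
    PRankLE 2 2 G := by
  have := h.simple
  have hi := relIndex_dvd_of_not_ch (Q := S ⊓ L) (k := 1) h.syl.pgrp inf_le_left fun e =>
    h.h8 (((c5.trans (e.sup_left le_rfl (h.syl.le.trans Ln))).mono_right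
      (sup_le LC h.syl.le)).top (cent_ne_top h.na h.t1))
  rw [inf_relIndex_left, pow_one] at hi
  have hS : IsSyl 2 S ⊤ := isSyl_of_isSyl_normalizer (h.syl.mono (le_inf le_top le_normalizer) ?_)
  · by_contra hr
    obtain ⟨E, hE, h8⟩ := Misc.not_pRankLE_top_iff.1 hr
    obtain ⟨g, -, hg⟩ := hS.exists_cj_le (Misc.isPGroup_of_isElementaryAbelian hE) le_top
    have h1 := relIndex_mul_relIndex ⊥ (L ⊓ cj(g, E)) cj(g, E) bot_le inf_le_right
    rw [relIndex_bot_left, relIndex_bot_left, card_cj, h8, inf_relIndex_right] at h1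
    have h2 := (relIndex_le_of_le_right hg index_ne_zero_of_finite).trans (Nat.le_of_dvd two_pos hi)
    have h3 : L ⊓ cj(g, E) ≤ zpowers u := fun x hx => (Misc.mem_zpowers_two h.tt).2 (un x hx.1 (by
      obtain ⟨y, hy, rfl⟩ := mem_cj_iff_exists.1 hx.2
      rw [conj_mul, ← pow_two, hE.2 y hy]; simp))
    have h4 := card_le_of_le h3
    rw [Nat.card_zpowers, orderOf_eq_prime (by rw [pow_two, h.tt]) h.t1] at h4
    have := Nat.mul_le_mul h4 h2
    omega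
  rintro n ⟨-, hn⟩
  obtain ⟨x, hx, e⟩ := sq
  have h1 := conj_mem_of_mem_normalizer hn hx
  have := normal_subgroupOf' (h.syl.le.trans Ln)
  obtain ⟨k, hk⟩ := hi
  have h2 : n * u * n⁻¹ ∈ L := by
    rw [← e, ← conj_mul, ← pow_two, hk, pow_mul]
    exact pow_mem (pow_index_mem (L.subgroupOf S) ⟨_, h1⟩) k
  exact mem_Z.2 ((un _ h2 (by rw [conj_mul, h.tt]; simp)).resolve_left (by simpa using h.t1))

end Cfsg.Agent.Len
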