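import Cfsg.Agent.Len.End

/-! The case `S = ⟨t⟩ × D` elementary of order eight, not Sylow in `G`. -/

set_option autoImplicit false

namespace Cfsg.Agent.Len

open Subgroup Cfsg.Agent.PLocal.Amb Cfsg.Agent.FGS.CT2 Cfsg.Agent.Inv

variable {G : Type*} [Group G] [Finite G] {t : G} {S D T : Subgroup G}

theorem Cf.exists_r (h : Cf t S) (hD : IsKleinFour D) (hDS : D ≤ S)
    (hS : ∀ x ∈ S, x ∈ D ∨ t * x ∈ D)
    (tr : ∀ a ∈ D, ∀ b ∈ D, a ≠ 1 → b ≠ 1 → ∃ n ∈ 𝐙[t] ⊓ 𝐍[D], n * a * n⁻¹ = b)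
    (hc : ∀ x ∈ S, ∀ y ∈ S, x * y = y * x) (hT : IsPGroup 2 T) (hST : S < T) :
    ∃ r ∈ 𝐍[S] ⊓ 𝐂[D], ∃ a ∈ D, a ≠ 1 ∧ r * t * r⁻¹ = t * a := by
  have hZ : ∀ y ∈ S, S ≤ 𝐙[y] := fun y hy x hx => mem_centralizer_singleton_iff.2 (hc x hx y hy)
  have h1 := lt_inf_normalizer hT hST
  obtain ⟨r, hr, rS, r2⟩ := exists_sq_mem' (hT.to_le inf_le_left) h1.not_ge
  have K : ∀ y ∈ S, IsConj t y → r * y * r⁻¹ ≠ y := fun y hy e e' =>
    rS (h.mem_of_comm e (hZ y hy) hT hST.le hr.1 e')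
  have tt : ∀ x, t * (t * x) = x := fun x => by rw [← mul_assoc, h.tt, one_mul]
  have c1 : ∀ a ∈ D, IsConj t a → ∀ b ∈ D, b ≠ 1 → IsConj t b := fun a ha e b hb b1 => by
    obtain ⟨n, -, e'⟩ := tr a ha b hb (fun a1 => h.t1 (by simpa [a1] using e)) b1
    exact e.trans (isConj_iff.2 ⟨n, e'⟩)
  have c2 : ∀ a ∈ D, a ≠ 1 → IsConj t (t * a) → ∀ b ∈ D, IsConj t (t * b) := by
    intro a ha a1 e b hb
    by_cases b1 : b = 1
    · rw [b1, mul_one]
    obtain ⟨n, hn, e'⟩ := tr a ha b hb a1 b1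
    exact e.trans (isConj_iff.2 ⟨n, by rw [← conj_mul, e', mem_Z.1 hn.1]⟩)
  have al : ∀ a ∈ D, IsConj t a → ∀ v ∈ D, v ≠ 1 → ¬ IsConj t (t * v) := by
    intro a ha e v hv v1 e'
    obtain ⟨x, hx, x1, h2⟩ := Misc.exists_mem_centralizer_of_isPGroup (hT.to_le inf_le_left)
      h.syl.pgrp inf_le_right fun e => h.t1 (by have := h.tS; rwa [e, mem_bot] at this)
    refine K x hx ?_ (by rw [h2 r hr]; simp)
    rcases hS x hx with h3 | h3
    · exact c1 a ha e x h3 x1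
    · rw [← tt x]; exact c2 v hv v1 e' _ h3
  have rt : IsConj t (r * t * r⁻¹) := isConj_iff.2 ⟨r, rfl⟩
  have rtS := conj_mem_of_mem_normalizer hr.2 h.tS
  have be : r * t * r⁻¹ ∉ D := fun ha => by
    have a1 : r * t * r⁻¹ ≠ 1 := by simpa using h.t1
    obtain ⟨b, hb, b1, ab, -⟩ := Misc.exists_eq_closure_pair_of_isKleinFour hD ha a1
    have h2 := inv_conj_mem_of_mem_normalizer hr.2 (hDS hb)
    rcases hS _ h2 with h3 | h3
    · refine al _ ha rt _ h3 (fun e => b1 (by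
        rw [show b = r * (r⁻¹ * b * r) * r⁻¹ by group, e]; simp)) ((c1 _ ha rt _ (mul_mem ha hb)
        (Klein.mul_ne_one hD hb ab)).trans (isConj_iff.2 ⟨r⁻¹, by group⟩))
    · refine al _ ha rt _ h3 (fun e => ab ?_) ?_
      · rw [show b = r * (t * (t * (r⁻¹ * b * r))) * r⁻¹ by rw [tt]; group, e, mul_one]
      · rw [tt]; exact (c1 _ ha rt _ hb b1).trans (isConj_iff.2 ⟨r⁻¹, by group⟩)
  have ha := (hS _ rtS).resolve_left be
  have e := (tt (r * t * r⁻¹)).symm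
  generalize t * (r * t * r⁻¹) = a at ha e
  have a1 : a ≠ 1 := fun e' => K t h.tS (IsConj.refl t) (by rw [e, e', mul_one])
  have c3 := c2 a ha a1 (e ▸ rt)
  have rD : ∀ x ∈ D, r * x * r⁻¹ ∈ D := fun x hx =>
    (hS _ (conj_mem_of_mem_normalizer hr.2 (hDS hx))).resolve_right fun h3 =>
      al x hx ((tt (r * x * r⁻¹) ▸ c3 _ h3).trans (isConj_iff.2 ⟨r⁻¹, by group⟩)) a ha a1
        (c3 a ha)
  have ra : r * a * r⁻¹ = a := by
    have := h.tS_fix r2
    rw [show r * r * t * (r * r)⁻¹ = r * (r * t * r⁻¹) * r⁻¹ by group, e, ← conj_mul, e,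
      mul_assoc, mul_eq_left] at this
    rw [eq_inv_of_mul_eq_one_right this, inv_eq_of_mul_eq_one_right (Klein.mul_self hD ha)]
  refine ⟨r, ⟨hr.2, mem_centralizer_iff.2 fun b hb => ?_⟩, a, ha, a1, e⟩
  rw [eq_comm, ← mul_inv_eq_iff_eq_mul]
  by_cases b1 : b = 1
  · simp [b1]
  by_cases ab : a = b
  · rw [← ab, ra]
  rcases Klein.cases hD ha hb (rD b hb) a1 b1 ab with h3 | h3 | h3 | h3
  · exact absurd (by simpa using h3) b1
  · rw [← ra] at h3
    exact absurd (by simpa using h3.symm) ab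
  · exact h3
  · refine absurd ?_ (K _ (mul_mem h.tS (hDS hb)) (c3 b hb))
    rw [← conj_mul, e, h3, mul_assoc, ← mul_assoc a, Klein.mul_self hD ha, one_mul]

theorem Cf.false_of_eight (h : Cf t S) (hD : IsKleinFour D) (hDS : D ≤ S) (htD : t ∉ D)
    (hS : ∀ x ∈ S, x ∈ D ∨ t * x ∈ D)
    (tr : ∀ a ∈ D, ∀ b ∈ D, a ≠ 1 → b ≠ 1 → ∃ n ∈ 𝐙[t] ⊓ 𝐍[D], n * a * n⁻¹ = b)
    (hT : IsPGroup 2 T) (hST : S < T) : False := by
  have := h.simple
  have tt : ∀ x, t * (t * x) = x := fun x => by rw [← mul_assoc, h.tt, one_mul]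
  have tD : ∀ v ∈ D, v * t = t * v := fun v hv => mem_centralizer_singleton_iff.1 (h.syl.le (hDS hv))
  have hsq : ∀ x ∈ S, x * x = 1 := fun x hx => by
    rcases hS x hx with e | e
    · exact Klein.mul_self hD e
    · have := Klein.mul_self hD e
      rwa [mul_assoc, ← mul_assoc x, mem_centralizer_singleton_iff.1 (h.syl.le hx), mul_assoc, tt]
        at this
  have hc : ∀ x ∈ S, ∀ y ∈ S, x * y = y * x := Misc.comm_of_sq fun x hx => by rw [sq, hsq x hx]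
  have S8 : Nat.card S = 8 := by
    have : S = D ⊔ zpowers t := le_antisymm (fun x hx => (hS x hx).elim mem_sup_left fun e => by
      rw [← tt x]; exact mul_mem (mem_sup_right (mem_zpowers t)) (mem_sup_left e))
      (sup_le hDS (zpowers_le.2 h.tS))
    rw [this, Misc.card_sup_zpowers_two h.tt htD
      (Misc.mem_normalizer_of_comm fun a ha => (tD a ha).symm), hD.card_four]
  obtain ⟨r, hr, a, ha, a1, e⟩ := h.exists_r hD hDS hS tr hc hT hST
  set A := 𝐍[S] ⊓ 𝐂[D] with hA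
  have AD : ∀ x ∈ A, ∀ v ∈ D, v * x = x * v := fun x hx => mem_centralizer_iff.1 hx.2
  have SA : S ≤ A := le_inf le_normalizer fun x hx =>
    mem_centralizer_iff.2 fun v hv => hc v (hDS hv) x hx
  have nA : 𝐙[t] ⊓ 𝐍[D] ≤ 𝐍[A] := le_normalizer_inf (le_normalizer_normalizer
    (le_normalizer_iff_cj.2 fun n hn => cj_le_iff_forall.2 fun x hx => by
      rcases hS x hx with e | e
      · exact hDS (conj_mem_of_mem_normalizer hn.2 e)
      · rw [← tt x, ← conj_mul, mem_Z.1 hn.1]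
        exact mul_mem h.tS (hDS (conj_mem_of_mem_normalizer hn.2 e))))
    (le_normalizer_centralizer inf_le_right)
  have o1 : ∀ k ∈ A, ∃ v ∈ D, k * t * k⁻¹ = t * v := fun k hk =>
    ⟨_, (hS _ (conj_mem_of_mem_normalizer hk.1 h.tS)).resolve_left fun e => htD (by
      have := AD k hk _ e
      rw [inv_mul_cancel_right, mul_right_inj] at this
      rwa [this]), (tt _).symm⟩
  have o2 : ∀ v ∈ D, ∃ k ∈ A, k * t * k⁻¹ = t * v := fun v hv => by
    by_cases v1 : v = 1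
    · exact ⟨1, one_mem _, by simp [v1]⟩
    obtain ⟨n, hn, e'⟩ := tr a ha v hv a1 v1
    refine ⟨n * r * n⁻¹, conj_mem_of_mem_normalizer (nA hn) hr, ?_⟩
    rw [show n * r * n⁻¹ * t * (n * r * n⁻¹)⁻¹ = n * (r * (n⁻¹ * t * n⁻¹⁻¹) * r⁻¹) * n⁻¹ by group,
      mem_Z.1 (inv_mem hn.1), e, ← conj_mul, e', mem_Z.1 hn.1]
  have hA4 := card_of_orbit o1 o2
  rw [hD.card_four] at hA4
  have h32 : 2 ^ 5 ∣ Nat.card A := by
    rw [hA4]
    exact mul_dvd_mul_left 4 (S8 ▸ card_dvd_of_le (le_inf SA h.syl.le))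
  obtain ⟨b, hb, b1, ab, -⟩ := Misc.exists_eq_closure_pair_of_isKleinFour hD ha a1
  have n2 := not_two_of_trans hD inf_le_right tr
  have A0 : A ≠ ⊥ := fun e => h.t1 (by have := SA h.tS; rwa [e, mem_bot] at this)
  have A1 : A ≠ ⊤ := fun e => cent_ne_top h.na a1 (top_le_iff.1 fun x _ =>
    mem_centralizer_singleton_iff.2 (AD x (e ▸ mem_top x) a ha).symm)
  have N1 := normalizer_ne_top A0 A1
  have A2 : IsPGroup 2 A := by
    by_contra hn
    obtain ⟨n, hn', e'⟩ := tr a ha b hb a1 b1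
    refine h.h8 (((ch_pow_succ 2 h32 hn).step (lt_of_le_of_ne le_normalizer fun e => ab ?_)).top N1)
    rw [← e', ← AD n (e ▸ nA hn') a ha, mul_inv_cancel_right]
  have AC : A ⊓ 𝐙[t] = S := h.syl.eq (A2.to_le inf_le_left) (le_inf SA h.syl.le) inf_le_right
  rw [AC, S8] at hA4
  obtain ⟨T', hT', hAT⟩ := exists_isSyl_ge A2 le_top
  have hAT' : A = T' := by
    by_contra hne
    exact h.h8 ((((ch_two h32).step (lt_inf_normalizer hT'.pgrp (lt_of_le_of_ne hAT hne))).step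
      (lt_of_le_of_ne inf_le_right fun e =>
        n2 ((hT'.pgrp.to_le inf_le_left).to_le (nA.trans e.ge)))).top N1)
  have sq : ∀ x ∈ A, x * x ∈ D := fun x hx => by
    obtain ⟨v, hv, e'⟩ := o1 x hx
    have h1 : x * x ∈ S := AC.le ⟨mul_mem hx hx, mem_Z.2 (by
      rw [show x * x * t * (x * x)⁻¹ = x * (x * t * x⁻¹) * x⁻¹ by group, e', ← conj_mul, e',
        ← AD x hx v hv, mul_inv_cancel_right, mul_assoc, Klein.mul_self hD hv, mul_one])⟩
    refine (hS _ h1).elim id fun h2 => ?_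
    obtain ⟨k, -, e''⟩ := o2 _ h2
    rw [tt] at e''
    have := h.mem_of_comm (isConj_iff.2 ⟨k, e''⟩)
      (fun y hy => mem_centralizer_singleton_iff.2 (hc y hy _ h1)) A2 SA hx (by group)
    rw [hsq x this]; exact one_mem D
  obtain ⟨s, hs, es⟩ := o2 b hb
  obtain ⟨x, hx, y, hy, ex, ey, xy⟩ : ∃ x ∈ A, ∃ y ∈ A, x * t * x⁻¹ = t * a ∧
      y * t * y⁻¹ = t * b ∧ x * y = y * x := by
    have hk : r * s * r⁻¹ * s⁻¹ ∈ D := by
      rw [show r * s * r⁻¹ * s⁻¹ = (r * r) * (r⁻¹ * s * (r⁻¹ * s)) * (s⁻¹ * s⁻¹) by group]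
      exact mul_mem (mul_mem (sq r hr) (sq _ (mul_mem (inv_mem hr) hs))) (sq _ (inv_mem hs))
    have f : ∀ x v, x * t * x⁻¹ = t * v → x * t * t * (x * t)⁻¹ = t * v := fun x v e => by
      rw [← e]; group
    have tA := SA h.tS
    have r1 : r * t = t * (r * a) := by rw [← AD r hr a ha, ← mul_assoc, ← e]; group
    have s1 : s * t = t * (s * b) := by rw [← AD s hs b hb, ← mul_assoc, ← es]; group
    have bb := Klein.mul_self hD hb
    have s2 : t * s = s * (t * b) := by rw [← mul_assoc, s1, mul_assoc, mul_assoc, bb, mul_one]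
    have cn : ∀ v ∈ D, v * (s * t * r) * v = s * t * r := fun v hv => by
      rw [AD _ (mul_mem (mul_mem hs tA) hr) v hv, mul_assoc, Klein.mul_self hD hv, mul_one]
    have rs : ∀ k, r * s * r⁻¹ * s⁻¹ = k → r * s = k * (s * r) := fun k e => by rw [← e]; group
    rcases Klein.cases hD ha hb hk a1 b1 ab with k | k | k | k
    · exact ⟨r, hr, s, hs, e, es, by simpa using rs _ k⟩
    · refine ⟨r, hr, s * t, mul_mem hs tA, e, f _ _ es, ?_⟩
      calc r * (s * t) = a * (s * (r * t)) := by rw [← mul_assoc, rs _ k]; group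
        _ = a * (s * t * r) * a := by rw [r1]; group
        _ = _ := cn _ ha
    · refine ⟨r * t, mul_mem hr tA, s, hs, f _ _ e, es, ?_⟩
      calc r * t * s = b * (s * (r * t)) * b := by rw [mul_assoc, s2, ← mul_assoc, rs _ k]; group
        _ = _ := by
          rw [AD _ (mul_mem hs (mul_mem hr tA)) b hb, mul_assoc, bb, mul_one]
    · refine ⟨r * t, mul_mem hr tA, s * t, mul_mem hs tA, f _ _ e, f _ _ es, ?_⟩
      rw [← mul_assoc, ← mul_assoc, mul_left_inj]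
      calc r * t * s = a * b * (s * (r * t)) * b := by
            rw [mul_assoc, s2, ← mul_assoc, rs _ k]; group
        _ = a * b * (s * t * r) * (a * b) := by rw [r1]; group
        _ = _ := cn _ (mul_mem ha hb)
  have six : ∀ R ≤ A, D ≤ R → x ∈ R → y ∈ R → 16 ∣ Nat.card R := fun R hR h1 h2 h3 => by
    rw [card_of_orbit (fun k hk => o1 k (hR hk)) fun v hv => ?_, hD.card_four]
    · exact mul_dvd_mul_left 4 (hD.card_four ▸ card_dvd_of_le (le_inf h1 (hDS.trans h.syl.le)))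
    rcases Klein.cases hD ha hb hv a1 b1 ab with rfl | rfl | rfl | rfl
    · exact ⟨1, one_mem _, by simp⟩
    · exact ⟨x, h2, ex⟩
    · exact ⟨y, h3, ey⟩
    · refine ⟨x * y, mul_mem h2 h3, ?_⟩
      rw [show x * y * t * (x * y)⁻¹ = x * (y * t * y⁻¹) * x⁻¹ by group, ey, ← conj_mul, ex,
        ← AD x hx b hb, mul_inv_cancel_right, mul_assoc]
  have DZ : ∀ w ∈ A, D ≤ 𝐙[w] := fun w hw v hv => mem_centralizer_singleton_iff.2 (AD w hw v hv)
  have tW : t ∉ A ⊓ (𝐙[x] ⊓ 𝐙[y]) := fun e => a1 (by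
    rw [← mem_centralizer_singleton_iff.1 e.2.1] at ex
    simpa using ex)
  have W2 : (A ⊓ (𝐙[x] ⊓ 𝐙[y])).relIndex A = 2 := by
    obtain ⟨m, hm⟩ := six _ inf_le_left (le_inf (hDS.trans SA) (le_inf (DZ x hx) (DZ y hy)))
      ⟨hx, mem_centralizer_singleton_iff.2 rfl, mem_centralizer_singleton_iff.2 xy⟩
      ⟨hy, mem_centralizer_singleton_iff.2 xy.symm, mem_centralizer_singleton_iff.2 rfl⟩
    have h3 := relIndex_mul_relIndex ⊥ (A ⊓ (𝐙[x] ⊓ 𝐙[y])) A bot_le inf_le_left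
    rw [relIndex_bot_left, relIndex_bot_left, hm, hA4, mul_assoc] at h3
    have h4 : (A ⊓ (𝐙[x] ⊓ 𝐙[y])).relIndex A ≠ 1 := fun e =>
      tW (relIndex_eq_one.1 e (SA h.tS))
    exact ((Nat.dvd_prime Nat.prime_two).1 (Dvd.intro_left m (by omega))).resolve_left h4
  rw [← hAT'] at hT'
  obtain ⟨P, hP⟩ := hT'.exists_sylow_top
  rcases S0111.result P _ (hP ▸ inf_le_left) (hP ▸ W2) t
    (orderOf_eq_prime (by rw [pow_two, h.tt]) h.t1) (hP ▸ SA h.tS) tW with ⟨M, -, e, -⟩ | ⟨g, hg⟩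
  · exact index_ne_two h.perf M e
  · have h1 := Nat.le_of_dvd Nat.card_pos (six _ inf_le_left (le_inf (hDS.trans SA) (DZ _ hg.1))
      ⟨hx, mem_centralizer_singleton_iff.2 (mem_centralizer_singleton_iff.1 hg.2.1).symm⟩
      ⟨hy, mem_centralizer_singleton_iff.2 (mem_centralizer_singleton_iff.1 hg.2.2).symm⟩)
    have h2 := h.card_le (isConj_iff.2 ⟨g, rfl⟩) (A2.to_le inf_le_left) inf_le_right
    omega

end Cfsg.Agent.Len
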