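import Cfsg.Agent.Len.B3

/-! The case of an involution centralizer with a component whose centre has odd order. -/

set_option autoImplicit false

namespace Cfsg.Agent.Len

open Subgroup Cfsg.Agent.PLocal.Amb Cfsg.Agent.FGS.CT2 Cfsg.Agent.Inv

variable {G : Type*} [Group G]

/-- `L` is a quasisimple normal subgroup of `C(t)` not containing `t` -/
structure Cl (t : G) (S L : Subgroup G) : Prop extends Cf t S where
  LC : L ≤ 𝐙[t]
  Ln : 𝐙[t] ≤ 𝐍[L]
  pf : ⁅L, L⁆ = L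
  ns : ¬ Group.IsSolvable L
  hq : ∀ M ≤ L, L ≤ 𝐍[M] → M ≤ 𝐂[L] ∨ M = L
  c4 : Ch ⊥ L 4
  ev : 2 ∣ Nat.card L
  tL : t ∉ L

variable [Finite G] {t : G} {S L T : Subgroup G}

namespace Cl

theorem sylD (h : Cl t S L) : IsSyl 2 (S ⊓ L) L := h.syl.inf_of_le h.LC h.Ln

omit [Finite G] in
theorem Cne (h : Cl t S L) : 𝐙[t] ≠ ⊤ :=
  have := h.simple
  cent_ne_top h.na h.t1

omit [Finite G] in
theorem not_ch (h : Cl t S L) {k n : ℕ} (hL : Ch ⊥ L k) (hk : k + n = 7) : ¬ Ch (S ⊓ L) S n :=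
  fun e => h.h8 (by
    have := ((hL.trans (e.sup_left le_rfl (h.syl.le.trans h.Ln))).mono_right
      (sup_le h.LC h.syl.le)).top h.Cne
    rwa [hk] at this)

theorem ch5 (h : Cl t S L) (h8 : 2 ^ 3 ∣ Nat.card ↥(S ⊓ L)) : Ch ⊥ L 5 :=
  lg_iff.1 (lg_of_pow h.ns le_rfl (h8.trans (card_dvd_of_le inf_le_right)))

/-- `S` abelian of order at least 16 is Sylow in `G` -/
theorem false_of_sixteen (h : Cl t S L) (hc : ∀ x ∈ S, ∀ y ∈ S, x * y = y * x)
    (h16 : 2 ^ 4 ∣ Nat.card S) (hT : IsPGroup 2 T) (hST : S < T) : False := by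
  have := h.simple
  have hD := h.sylD
  set D := S ⊓ L
  have hc' : ∀ x ∈ D, ∀ y ∈ D, x * y = y * x := fun x hx y hy => hc x hx.1 y hy.1
  obtain ⟨a, ha, a1⟩ := (bot_or_exists_ne_one D).resolve_left fun e => hD.eq_bot_iff.1 e h.ev
  have h1 : 𝐙[t] ⊓ 𝐂[D] < 𝐙[t] ⊓ 𝐍[D] :=
    lt_of_le_of_ne (inf_le_inf_left _ (centralizer_le_normalizer' D)) fun e =>
      a1 (eq_one_of_fix' h.pf hD hc' ha fun n hn => by
        rw [← mem_centralizer_iff.1 (e.ge ⟨h.LC hn.1, hn.2⟩).2 a ha, mul_inv_cancel_right])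
  have h2 : 𝐙[t] ⊓ 𝐍[D] < 𝐙[t] := lt_of_le_of_ne inf_le_left fun e => by
    rcases h.hq D hD.le (h.LC.trans (e.ge.trans inf_le_right)) with e' | e'
    · exact a1 (eq_one_of_fix' h.pf hD hc' ha fun n hn => by
        rw [mem_centralizer_iff.1 (e' ha) n hn.1, mul_inv_cancel_right])
    · have : Group.IsNilpotent L := (hD.pgrp.to_le e'.ge).isNilpotent
      exact h.ns inferInstance
  have h3 : S ≤ 𝐙[t] ⊓ 𝐂[D] :=
    le_inf h.syl.le fun x hx => mem_centralizer_iff.2 fun y hy => hc y hy.1 x hx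
  have h4 : S = 𝐙[t] ⊓ 𝐂[D] := by
    by_contra e
    exact h.h8 (((((ch_two h16).step (lt_of_le_of_ne h3 e)).step h1).step h2).top h.Cne)
  have h5 : 𝐙[t] ⊓ 𝐍[D] ≤ 𝐍[S] := by
    conv_rhs => rw [h4]
    exact le_normalizer_inf (inf_le_left.trans le_normalizer)
      (le_normalizer_centralizer inf_le_right)
  have h6 := lt_inf_normalizer hT hST
  obtain ⟨r, hr, rS, r2⟩ := exists_sq_mem' (hT.to_le inf_le_left) h6.not_ge
  have S0 : S ≠ ⊥ := fun e => h.t1 (by have := h.tS; rwa [e, mem_bot] at this)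
  rw [← h4] at h1
  have h7 : 𝐍[S] ≤ 𝐍[𝐙[t] ⊓ 𝐍[D]] := le_normalizer_of_short le_rfl
    (fun e => h.h8 (((ch_two h16).trans e).top (normalizer_ne_top S0 (h.ne_top h.syl.pgrp)))) h1 h5
    (h.syl.mono h1.le inf_le_left).not_dvd_relIndex (by
      by_contra e
      exact h6.not_ge ((isSyl_of_not_dvd_relIndex h.syl.pgrp le_normalizer e).max _
        (hT.to_le inf_le_left) h6.le inf_le_right))
  have uS := conj_mem_of_mem_normalizer hr.2 h.tS
  have h8 : ∀ n ∈ 𝐙[t] ⊓ 𝐍[D], n * (r * t * r⁻¹) * n⁻¹ = r * t * r⁻¹ := fun n hn => by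
    conv_rhs => rw [← mem_Z.1 (inv_conj_mem_of_mem_normalizer (h7 hr.2) hn).1]
    group
  obtain ⟨M, m1, m2, m3⟩ := zstar_ab h.syl hc (u := r * t * r⁻¹)
    (by rw [PLocal.Amb.orderOf_conj']; exact orderOf_eq_prime (by rw [pow_two, h.tt]) h.t1) uS
    fun n hn => h8 n ⟨hn.1, le_normalizer_inf inf_le_right (inf_le_left.trans h.Ln) hn⟩
  have h9 : L ≤ 𝐙[r * t * r⁻¹] := cent_of_comm h.pf fun g hg => by
    have b1 : r * t * r⁻¹ * g * (r * t * r⁻¹)⁻¹ * g⁻¹ ∈ L :=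
      mul_mem (conj_mem_of_mem_normalizer (h.Ln (h.syl.le uS)) hg) (inv_mem hg)
    rcases h.hq (M ⊓ L) inf_le_right (le_normalizer_inf (h.LC.trans m1) le_normalizer) with e | e
    · exact ⟨b1, e ⟨m3 g (h.LC hg), b1⟩⟩
    · exact absurd (h.ev.trans (card_dvd_of_le (e.ge.trans inf_le_left)))
        (by rwa [← even_iff_two_dvd, Nat.not_even_iff_odd])
  have hX : S ≤ 𝐙[t] ⊓ 𝐙[r * t * r⁻¹] :=
    le_inf h.syl.le fun x hx => mem_centralizer_singleton_iff.2 (hc x hx _ uS)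
  have c6 := (ch_two h16).trans (ch_two_of_cl2'
    (fun e => h.ns (Group.isSolvable_of_isSolvable_injective
      (inclusion_injective (le_inf h.LC h9)))) hX h.syl.pgrp fun x hx y hy z _ => by
      rw [commutatorElement_eq_one_iff_mul_comm.2 (hc x hx y hy)]; exact Commute.one_left z)
  refine h.h8 ((c6.step (lt_of_le_of_ne le_normalizer fun e => rS ?_)).top (normalizer_ne_top
    (fun e => S0 (le_bot_iff.1 (hX.trans e.le))) fun e => h.Cne (top_le_iff.1 (e.ge.trans inf_le_left))))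
  refine h.mem_of_comm (IsConj.refl t) h.syl.le hT hST.le hr.1 (mem_Z.1 (e.ge (cj_eq_iff.1 ?_)).1)
  rw [cj_inf, ← centralizer_singleton_conj, ← centralizer_singleton_conj, inf_comm,
    show r * (r * t * r⁻¹) * r⁻¹ = r * r * t * (r * r)⁻¹ by group, h.tS_fix r2]

theorem dc_fus (h : Cl t S L) {k : ℕ} (c : DC (S ⊓ L) k) (a : ZMod (2 ^ (k + 2))) :
    ∀ x ∈ c.T a, ∀ y ∈ c.T a, x ≠ 1 → y ≠ 1 → ∃ n ∈ L ⊓ 𝐍[c.T a], n * x * n⁻¹ = y := by
  obtain ⟨⟨P, p1, p2⟩, rfl⟩ := h.sylD.exists_sylow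
  let c' : DC ((⟨_, p1, p2⟩ : Sylow 2 L) : Subgroup L) k := c.subgroupOf inf_le_right
  have hTL : c.T a ≤ L := (c.T_le a).trans inf_le_right
  have e : c'.T a = (c.T a).subgroupOf L := by
    ext x
    rw [c'.mem_T, mem_subgroupOf, c.mem_T]
    simp only [Subtype.ext_iff]
    rfl
  have h1 : IsConj (c'.r (2 ^ (k + 1))) (c'.s a) := by
    by_contra hn
    obtain ⟨H, hH⟩ := c'.exists_index_two hn
    exact index_ne_two (perfect_sub h.pf) H hH
  intro x hx y hy x1 y1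
  obtain ⟨g, hg, e'⟩ := exists_conj_kleinFour (c'.isKleinFour_T a) (c'.relIndex_T_eq_six h1)
    (a := ⟨x, hTL hx⟩) (b := ⟨y, hTL hy⟩) (e ▸ hx) (e ▸ hy) (fun e => x1 (congrArg Subtype.val e))
    fun e => y1 (congrArg Subtype.val e)
  rw [e, ← subgroupOf_normalizer_eq hTL] at hg
  exact ⟨g, ⟨g.2, hg⟩, congrArg Subtype.val e'⟩

/-- elements of `D` outside the conjugacy class of `t` -/
theorem mem_of_conj {z : G} (h : Cz t z S) {D : Subgroup G}
    (fus : ∀ d ∈ D, d * d = 1 → d ≠ 1 → ∃ n ∈ 𝐙[t], n * d * n⁻¹ = z) {r y : G}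
    (hr : r * t * r⁻¹ = t * z) (hy : IsConj z y) (y1 : t * y ∈ D) (y2 : t * y * (t * y) = 1) :
    False := by
  have tt : t * (t * y) = y := by rw [← mul_assoc, h.tt, one_mul]
  have key : ¬ IsConj t y := fun e => by
    obtain ⟨g, hg⟩ := isConj_iff.1 (e.trans hy.symm)
    exact h.not_conj g hg
  by_cases e : t * y = 1
  · exact key (by rw [← tt, e, mul_one])
  obtain ⟨n, hn, e'⟩ := fus _ y1 y2 e
  refine key ((isConj_iff.2 ⟨r, hr⟩).trans (isConj_iff.2 ⟨n, ?_⟩).symm)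
  rw [← tt, ← conj_mul, e', mem_Z.1 hn]

/-- `D` dihedral of order at least eight -/
theorem false_of_dc (h : Cl t S L) {k : ℕ} (c : DC (S ⊓ L) k) : False := by
  have tt : ∀ x, t * (t * x) = x := fun x => by rw [← mul_assoc, h.tt, one_mul]
  have tc : ∀ x ∈ S, t * x = x * t := fun x hx =>
    (mem_centralizer_singleton_iff.1 (h.syl.le hx)).symm
  have htD : t ∉ S ⊓ L := fun e => h.tL e.2
  have h2 := h.not_ch (h.ch5 (c.card ▸ pow_dvd_pow 2 (by omega))) (n := 2) rfl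
  have hi : (S ⊓ L).relIndex S = 2 := ((Nat.dvd_prime Nat.prime_two).1
    (relIndex_dvd_of_not_ch h.syl.pgrp inf_le_left h2)).resolve_left fun e =>
      htD (relIndex_eq_one.1 e h.tS)
  have hS : ∀ x ∈ S, x ∈ S ⊓ L ∨ t * x ∈ S ⊓ L := fun x hx => or_iff_not_imp_left.2 fun e =>
    (mul_mem_iff_of_index_two (H := (S ⊓ L).subgroupOf S) hi (a := ⟨t, h.tS⟩) (b := ⟨x, hx⟩)).2
      (iff_of_false htD e)
  have sq : ∀ x ∈ S, t * x * (t * x) = x * x := fun x hx => by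
    rw [mul_assoc, ← mul_assoc x, ← tc x hx, mul_assoc, tt]
  have cm : ∀ x y, y ∈ S → y * x = x * y → y * (t * x) = t * x * y := fun x y hy e => by
    rw [← mul_assoc, ← tc y hy, mul_assoc, e, mul_assoc]
  have zD := c.r_mem (2 ^ (k + 1))
  have hc : ∀ d ∈ S ⊓ L, S ≤ 𝐙[d] → d = 1 ∨ d = c.r (2 ^ (k + 1)) := fun d hd e => by
    rcases c.cases hd with ⟨i, rfl⟩ | ⟨i, rfl⟩
    · have := mem_centralizer_singleton_iff.1 (e (c.s_mem 0).1)
      rw [c.s_mul_r, c.r_mul_s, c.s_inj] at this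
      rcases (Z2.two_mul_eq_zero_iff i).1 (by linear_combination -this) with e | e
      · exact Or.inl (by rw [e, c.r_zero])
      · exact Or.inr (by rw [e])
    · have := mem_centralizer_singleton_iff.1 (e (c.r_mem (2 ^ k)).1)
      rw [c.s_mul_r, c.r_mul_s, c.s_inj] at this
      exact absurd (by linear_combination this) (DC.h_ne_zero (k := k))
  have hz : Cz t (c.r (2 ^ (k + 1))) S :=
    { h.toCf with
      zS := zD.1
      zz := c.z_sq
      zt := fun e => htD (e ▸ zD)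
      hz := fun n hn => by
        have h3 := conj_mem_of_mem_normalizer hn (c.r_mem (2 ^ k)).1
        have h4 : ∃ d ∈ S ⊓ L, n * c.r (2 ^ (k + 1)) * n⁻¹ = d * d := by
          rw [← c.w_sq, ← conj_mul]
          exact (hS _ h3).elim (fun e => ⟨_, e, rfl⟩) fun e => ⟨_, e, (sq _ h3).symm⟩
        obtain ⟨d, hd, e⟩ := h4
        have h5 : orderOf (d * d) = 2 := by rw [← e, PLocal.Amb.orderOf_conj', c.orderOf_z]
        rw [e]
        rcases c.cases_of_orderOf_two (mul_mem hd hd) h5 with e | ⟨b, e⟩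
        · exact e
        · rcases c.cases hd with ⟨i, rfl⟩ | ⟨i, rfl⟩ <;> simp at e
      hZ := fun x hx e => by
        rcases hS x hx with e' | e'
        · rcases hc x e' e with e | e <;> simp [e]
        · rcases hc _ e' fun y hy => mem_centralizer_singleton_iff.2
            (cm x y hy (mem_centralizer_singleton_iff.1 (e hy))) with e | e
          · rw [← tt x, e]; simp
          · rw [← tt x, e]; simp }
  have fus : ∀ d ∈ S ⊓ L, d * d = 1 → d ≠ 1 → ∃ n ∈ 𝐙[t], n * d * n⁻¹ = c.r (2 ^ (k + 1)) := by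
    intro d hd d2 d1
    rcases c.cases_of_orderOf_two hd (orderOf_eq_prime (by rw [pow_two, d2]) d1) with e | ⟨b, e⟩
    · exact ⟨1, one_mem _, by simp [e]⟩
    · obtain ⟨n, hn, e'⟩ := h.dc_fus c b d (e ▸ c.s_mem_T b) _ (c.z_mem_T b) d1
        (by simpa using DC.h_ne_zero)
      exact ⟨n, h.LC hn.1, e'⟩
  have nc : ∀ g, g * t * g⁻¹ ∉ S ⊓ L := fun g hg => by
    obtain ⟨n, -, e⟩ := fus _ hg (by rw [conj_mul, h.tt]; simp) (by simpa using h.t1)
    exact hz.not_conj (n * g) (by rw [← e]; group)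
  have nE : ∀ x ∈ S, ∀ a, x = c.s a ∨ t * x = c.s a → 𝐍[S ⊓ 𝐙[x]] ≤ 𝐙[t] := by
    intro x hx a e
    have h3 : ∀ y ∈ S, y ∈ 𝐙[x] ↔ y * c.s a = c.s a * y := fun y hy => by
      rw [mem_centralizer_singleton_iff]
      rcases e with e | e <;> rw [← e]
      exact ⟨cm x y hy, fun e => by simpa only [tt] using cm _ y hy e⟩
    have h4 : ∀ y ∈ c.T a, y ∈ S ⊓ 𝐙[x] := fun y hy => ⟨(c.T_le a hy).1, (h3 y (c.T_le a hy).1).2
      (Klein.comm (c.isKleinFour_T a) hy (c.s_mem_T a))⟩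
    have h5 : t ∈ S ⊓ 𝐙[x] := ⟨h.tS, mem_centralizer_singleton_iff.2 (tc x hx)⟩
    refine h.ne_le (c.isKleinFour_T a) (fun y => ⟨fun hy => (hS y hy.1).imp (fun e =>
      c.mem_T_of_commute_s e ((h3 y hy.1).1 hy.2).symm) fun e => c.mem_T_of_commute_s e
        ((h3 _ e.1).1 (mul_mem h5.2 hy.2)).symm, fun e => e.elim (h4 y) fun e => ?_⟩)
      (h.syl.pgrp.to_le inf_le_left) le_rfl ?_ (fun x hx y hy x1 y1 => ?_)
      fun g hg => nc g (c.T_le a hg)
    · rw [← tt y]; exact mul_mem h5 (h4 _ e)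
    · refine (dvd_of_ch (a := 2) (n := 2) (A := c.T a) (B := S ⊓ 𝐍[c.T a])
        (h.syl.pgrp.to_le inf_le_left) ((Ch.one (B := S ⊓ L ⊓ 𝐍[c.T a]) (lt_of_le_of_ne
          (le_inf (c.T_le a) le_normalizer) fun e => c.w_notMem_centralizer_T a ?_)).step
          (lt_of_le_of_ne (inf_le_inf_right _ inf_le_left) fun e => htD (e.ge ⟨h.tS, ?_⟩).1))
        (c.isKleinFour_T a).card_four.ge).trans (card_dvd_of_le (inf_le_inf_right _ h.syl.le))
      · exact mem_centralizer_iff.2 fun y hy => Klein.comm (c.isKleinFour_T a) hy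
          (e.ge ⟨c.r_mem _, c.w_mem_normalizer_T a⟩)
      · exact Misc.mem_normalizer_of_comm fun y hy => tc y (c.T_le a hy).1
    · obtain ⟨n, hn, e⟩ := h.dc_fus c a x hx y hy x1 y1
      exact ⟨n, ⟨h.LC hn.1, hn.2⟩, e⟩
  obtain ⟨T, hT, hST⟩ := exists_isSyl_ge h.syl.pgrp le_top
  have hD : T ⊓ 𝐍[S] ≤ 𝐍[S ⊓ L] := fun r hr => by
    by_cases rS : r ∈ S
    · exact le_normalizer_inf le_normalizer (h.syl.le.trans h.Ln) rS
    have h3 : ∀ a, r * c.s a * r⁻¹ ∈ S ⊓ L := fun a => by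
      have h4 := conj_mem_of_mem_normalizer hr.2 (c.s_mem a).1
      refine (hS _ h4).resolve_right fun e => mem_of_conj hz fus (hz.conj_t' hT.pgrp hST hr rS)
        ?_ e (by rw [sq _ h4, conj_mul, c.s_mul_self]; simp)
      obtain ⟨n, -, e'⟩ := fus _ (c.s_mem a) (c.s_mul_self a) (c.s_ne_one a)
      exact (isConj_iff.2 ⟨n, e'⟩).symm.trans (isConj_iff.2 ⟨r, rfl⟩)
    refine mem_normalizer_of_cj_le (cj_le_iff_forall.2 fun d hd => ?_)
    rcases c.cases hd with ⟨i, rfl⟩ | ⟨i, rfl⟩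
    · rw [show c.r i = c.s i * c.s 0 by simp, ← conj_mul]
      exact mul_mem (h3 _) (h3 _)
    · exact h3 i
  refine hz.false_of_end hT hST (E := c.T 0 ⊔ zpowers t)
    (sup_le ((c.T_le 0).trans inf_le_left) (zpowers_le.2 h.tS)) (fun x hx => ?_) ?_
    (fun r hr rS x hx x2 e => ?_) hD ?_ zD htD
  · rw [← pow_two]
    exact Misc.sq_eq_one_sup_zpowers (Misc.isKleinFour_iff.1 (c.isKleinFour_T 0)).2 h.tt
      (fun y hy => tc y (c.T_le 0 hy).1) x hx
  · rw [Misc.card_sup_zpowers_two h.tt (fun e => htD (c.T_le 0 e))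
      (Misc.mem_normalizer_of_comm fun y hy => tc y (c.T_le 0 hy).1), (c.isKleinFour_T 0).card_four]
    omega
  · have h3 : ∀ a, ¬ (x = c.s a ∨ t * x = c.s a) := fun a e' => rS (h.mem_of_comm (IsConj.refl t)
      h.syl.le hT.pgrp hST hr.1 (mem_Z.1 (nE x hx a e' (cj_eq_iff.1 (by
        rw [cj_inf, cj_of_mem_normalizer hr.2, ← centralizer_singleton_conj, e])))))
    have h4 : ∀ d ∈ S ⊓ L, d * d = 1 → (∀ a, d ≠ c.s a) → ∀ y ∈ S, y * d = d * y := by
      intro d hd d2 ds y hy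
      by_cases d1 : d = 1
      · simp [d1]
      rcases c.cases_of_orderOf_two hd (orderOf_eq_prime (by rw [pow_two, d2]) d1) with e | ⟨b, e⟩
      · rw [e, ← mul_inv_eq_iff_eq_mul]; exact hz.hz y (le_normalizer hy)
      · exact absurd e (ds b)
    intro y hy
    rw [mem_centralizer_singleton_iff]
    rcases hS x hx with e' | e'
    · exact h4 x e' x2 (fun a e => h3 a (Or.inl e)) y hy
    · simpa only [tt] using
        cm _ y hy (h4 _ e' ((sq x hx).trans x2) (fun a e => h3 a (Or.inr e)) y hy)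
  · rw [← relIndex_mul_relIndex _ S _ inf_le_left (le_inf hST le_normalizer), hi]
    exact mul_dvd_mul_left 2 (hz.relIndex_dvd hT.pgrp hST)

end Cl

end Cfsg.Agent.Len
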