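import Cfsg.Agent.Len.CaseB

/-! The case of a four-group `D`, and the conclusion for components with odd centre. -/

set_option autoImplicit false

namespace Cfsg.Agent.Len

open Subgroup Cfsg.Agent.PLocal.Amb Cfsg.Agent.FGS.CT2 Cfsg.Agent.Inv

variable {G : Type*} [Group G] [Finite G] {t : G} {S L : Subgroup G}

namespace Cl

theorem false_of_four (h : Cl t S L) (hD : IsKleinFour ↥(S ⊓ L))
    (nab : ¬ ∀ x ∈ S, ∀ y ∈ S, x * y = y * x) : False := by
  have hsD := h.sylD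
  have SD : S ≤ 𝐍[S ⊓ L] := le_normalizer_inf le_normalizer (h.syl.le.trans h.Ln)
  have hi4 := relIndex_dvd_of_not_ch h.syl.pgrp inf_le_left (h.not_ch h.c4 (n := 3) rfl)
  have DS : S ⊓ L ≤ S := inf_le_left
  have htD : t ∉ S ⊓ L := fun e => h.tL e.2
  generalize S ⊓ L = D at hD hsD SD hi4 DS htD
  have tt : ∀ x, t * (t * x) = x := fun x => by rw [← mul_assoc, h.tt, one_mul]
  have tc : ∀ x ∈ S, t * x = x * t := fun x hx =>
    (mem_centralizer_singleton_iff.1 (h.syl.le hx)).symm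
  have cm : ∀ x y, y ∈ S → y * x = x * y → y * (t * x) = t * x * y := fun x y hy e => by
    rw [← mul_assoc, ← tc y hy, mul_assoc, e, mul_assoc]
  have tr : ∀ a ∈ D, ∀ b ∈ D, a ≠ 1 → b ≠ 1 → ∃ n ∈ 𝐙[t] ⊓ 𝐍[D], n * a * n⁻¹ = b := by
    intro a ha b hb a1 b1
    obtain ⟨n, hn, e⟩ := trans_of_ab h.pf hsD (fun _ h1 _ h2 => Klein.comm hD h1 h2)
      (by rw [hD.card_four]; omega) ha hb a1 b1
    exact ⟨n, ⟨h.LC hn.1, hn.2⟩, e⟩
  obtain ⟨E, hE, E2, E8⟩ : ∃ E : Subgroup G, (∀ x, x ∈ E ↔ x ∈ D ∨ t * x ∈ D) ∧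
      (∀ x ∈ E, x ^ 2 = 1) ∧ Nat.card E = 8 := by
    refine ⟨D ⊔ zpowers t, fun x => ?_, Misc.sq_eq_one_sup_zpowers (Misc.isKleinFour_iff.1 hD).2
      h.tt fun y hy => tc y (DS hy), by
        rw [Misc.card_sup_zpowers_two h.tt htD (SD h.tS), hD.card_four]⟩
    rw [Misc.mem_sup_zpowers_two h.tt fun a ha => conj_mem_of_mem_normalizer (SD h.tS) ha,
      mem_normalizer_iff.1 (SD h.tS) (x * t), ← mul_assoc, mul_inv_cancel_right]
  have Ec := Misc.comm_of_sq E2
  have ES : E ≤ S := fun x hx => ((hE x).1 hx).elim (fun e => DS e) fun e =>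
    tt x ▸ mul_mem h.tS (DS e)
  have DE : D ≤ E := fun x hx => (hE x).2 (Or.inl hx)
  have tE : t ∈ E := (hE t).2 (Or.inr (h.tt ▸ one_mem D))
  have hlt : E < S := lt_of_le_of_ne ES fun e => nab (e ▸ Ec)
  have S16 : Nat.card S = 16 := by
    have h3 := relIndex_mul_relIndex ⊥ D S bot_le DS
    rw [relIndex_bot_left, relIndex_bot_left, hD.card_four] at h3
    have h4 := (Ch.one hlt).card_le
    have := Nat.le_of_dvd (by norm_num) hi4
    omega
  have hi : E.relIndex S = 2 := by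
    have h3 := relIndex_mul_relIndex ⊥ E S bot_le ES
    rw [relIndex_bot_left, relIndex_bot_left, E8, S16] at h3
    omega
  have hm : ∀ x ∈ S, ∀ y ∈ S, x ∉ E → y ∉ E → x * y ∈ E := fun x hx y hy x1 y1 =>
    (mul_mem_iff_of_index_two (H := E.subgroupOf S) hi (a := ⟨x, hx⟩) (b := ⟨y, hy⟩)).2
      (iff_of_false x1 y1)
  obtain ⟨z, zD, z1, hz0⟩ := Misc.exists_mem_centralizer_of_isPGroup h.syl.pgrp hsD.pgrp SD
    fun e => hsD.eq_bot_iff.1 e h.ev
  have zz := Klein.mul_self hD zD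
  -- an element outside `E` centralizes only `z` in `D`
  have hs : ∀ s ∈ S, s ∉ E → ∀ v ∈ D, s * v = v * s → v = 1 ∨ v = z := by
    intro s hs sE v hv e
    by_contra hn
    rw [not_or] at hn
    have h1 : E ≤ 𝐙[s] := fun x hx => by
      have h2 : D ≤ 𝐙[s] := fun y hy => by
        have a := mem_centralizer_singleton_iff.2 e.symm
        have b := mem_centralizer_singleton_iff.2 (hz0 s hs).symm
        rcases Klein.cases hD hv zD hy hn.1 z1 hn.2 with rfl | rfl | rfl | rfl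
        exacts [one_mem _, a, b, mul_mem a b]
      rcases (hE x).1 hx with e | e
      · exact h2 e
      · exact tt x ▸ mul_mem (mem_centralizer_singleton_iff.2 (tc s hs)) (h2 e)
    have h2 : ∀ x ∈ S, E ≤ 𝐙[x] ∧ s ∈ 𝐙[x] := fun x hx => by
      by_cases xE : x ∈ E
      · exact ⟨fun y hy => mem_centralizer_singleton_iff.2 (Ec y hy x xE),
          mem_centralizer_singleton_iff.2 (mem_centralizer_singleton_iff.1 (h1 xE)).symm⟩
      · have h3 := hm _ (inv_mem hs) x hx (by rwa [inv_mem_iff]) xE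
        rw [show x = s * (s⁻¹ * x) by group]
        generalize s⁻¹ * x = w at h3
        refine ⟨fun y hy => ?_, ?_⟩ <;> rw [mem_centralizer_singleton_iff]
        · rw [← mul_assoc, mem_centralizer_singleton_iff.1 (h1 hy), mul_assoc, Ec y hy w h3,
            mul_assoc]
        · rw [mul_assoc, mem_centralizer_singleton_iff.1 (h1 h3)]
    refine nab fun x hx y hy => mem_centralizer_singleton_iff.1 ?_
    by_cases xE : x ∈ E
    · exact (h2 y hy).1 xE
    · rw [show x = s * (s⁻¹ * x) by group]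
      exact mul_mem (h2 y hy).2 ((h2 y hy).1 (hm _ (inv_mem hs) x hx (by rwa [inv_mem_iff]) xE))
  have hs' : ∀ s ∈ S, s ∉ E → ∀ x ∈ E, s * x = x * s → x = 1 ∨ x = t ∨ x = z ∨ x = t * z := by
    intro s h1 h2 x hx e
    rcases (hE x).1 hx with e' | e'
    · rcases hs s h1 h2 x e' e with e | e <;> simp [e]
    · rcases hs s h1 h2 _ e' (cm x s h1 e) with e | e <;> rw [← tt x, e] <;> simp
  obtain ⟨s, sS, sE⟩ := SetLike.exists_of_lt hlt
  obtain ⟨v, hv, v1, zv, -⟩ := Misc.exists_eq_closure_pair_of_isKleinFour hD zD z1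
  have cv : ∀ s ∈ S, ∀ x ∈ D, s * x * s⁻¹ = x ∨ s * x * s⁻¹ = z * x := fun s h1 x hx => by
    by_cases x1 : x = 1
    · simp [x1]
    by_cases xz : z = x
    · left; rw [← xz, hz0 s h1, mul_inv_cancel_right]
    rcases Klein.cases hD zD hx (conj_mem_of_mem_normalizer (SD h1) hx) z1 x1 xz with e | e | e | e
    · exact absurd (by simpa using e) x1
    · exact absurd (by rw [← mul_left_inj s⁻¹, ← mul_right_inj s, ← mul_assoc, hz0 s h1,
        mul_inv_cancel_right, ← e, mul_assoc]) xz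
    · exact Or.inl e
    · exact Or.inr e
  have cv' : ∀ s ∈ S, ∀ x ∈ E, s * x * s⁻¹ * x⁻¹ = 1 ∨ s * x * s⁻¹ * x⁻¹ = z := fun s h1 x hx => by
    simp only [mul_inv_eq_iff_eq_mul (b := x), one_mul]
    rcases (hE x).1 hx with e | e
    · exact cv s h1 x e
    · rw [← tt x, ← conj_mul, h.tS_fix h1]
      refine (cv s h1 _ e).imp (fun e => by rw [e]) fun e => ?_
      rw [e, ← mul_assoc, tc z (DS zD), mul_assoc]
  have hz : Cz t z S :=
    { h.toCf with
      zS := DS zD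
      zz := zz
      zt := fun e => htD (e ▸ zD)
      hz := fun n hn => by
        have h1 : s * v * s⁻¹ * v⁻¹ = z := (cv' s sS v (DE hv)).resolve_left fun e => by
          rw [mul_inv_eq_one, mul_inv_eq_iff_eq_mul] at e
          exact (hs s sS sE v hv e).elim v1 zv.symm
        have h2 : ∀ x ∈ S, ∀ y ∈ S, x * y * x⁻¹ * y⁻¹ = 1 ∨ x * y * x⁻¹ * y⁻¹ = z := by
          intro x hx y hy
          by_cases yE : y ∈ E
          · exact cv' x hx y yE
          by_cases xE : x ∈ E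
          · refine (cv' y hy x xE).imp (fun e => ?_) fun e => ?_
            · rw [← inv_eq_one, ← e]; group
            · rw [← inv_eq_of_mul_eq_one_right zz, ← e]; group
          · rw [show x * y * x⁻¹ * y⁻¹ = x * (y * x⁻¹) * x⁻¹ * (y * x⁻¹)⁻¹ by group]
            exact cv' x hx _ (hm y hy _ (inv_mem hx) yE (by rwa [inv_mem_iff]))
        refine (h2 _ (conj_mem_of_mem_normalizer hn sS) _
          (conj_mem_of_mem_normalizer hn (DS hv))).elim (fun e => absurd ?_ z1) fun e => ?_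
        · rw [← h1, show s * v * s⁻¹ * v⁻¹ = n⁻¹ * (n * s * n⁻¹ * (n * v * n⁻¹) * (n * s * n⁻¹)⁻¹ *
            (n * v * n⁻¹)⁻¹) * n by group, e]
          simp
        · conv_rhs => rw [← e]
          rw [← h1]; group
      hZ := fun x hx e => by
        by_cases xE : x ∈ E
        · exact hs' s sS sE x xE (mem_centralizer_singleton_iff.1 (e sS))
        · exact ((hs x hx xE v hv (mem_centralizer_singleton_iff.1 (e (DS hv))).symm).elim v1
            zv.symm).elim }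
  have fus : ∀ d ∈ D, d * d = 1 → d ≠ 1 → ∃ n ∈ 𝐙[t], n * d * n⁻¹ = z := fun d hd _ d1 =>
    let ⟨n, hn, e⟩ := tr d hd z zD d1 z1; ⟨n, hn.1, e⟩
  have nE : 𝐍[E] ≤ 𝐙[t] := h.ne_le hD hE (h.syl.pgrp.to_le ES) le_rfl
    (S16 ▸ card_dvd_of_le (le_inf h.syl.le SD)) tr fun g hg => by
      obtain ⟨n, -, e⟩ := tr _ hg z zD (by simpa using h.t1) z1
      exact hz.not_conj (n * g) (by rw [← e]; group)
  obtain ⟨T, hT, hST⟩ := exists_isSyl_ge h.syl.pgrp le_top
  have nE' : ∀ r ∈ T ⊓ 𝐍[S], r ∉ S → r ∉ 𝐍[E] := fun r hr rS e =>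
    rS (h.mem_of_comm (IsConj.refl t) h.syl.le hT.pgrp hST hr.1 (mem_Z.1 (nE e)))
  have hno : ∀ r ∈ T ⊓ 𝐍[S], r ∉ S → ∀ x ∈ S, x * x = 1 → r * x * r⁻¹ = x → S ≤ 𝐙[x] := by
    intro r hr rS x hx x2 e
    have c4 : ∀ x, x = 1 ∨ x = t ∨ x = z ∨ x = t * z → S ≤ 𝐙[x] := fun x hx y hy => by
      rw [mem_centralizer_singleton_iff]
      rcases hx with rfl | rfl | rfl | rfl
      exacts [by simp, (tc y hy).symm, hz0 y hy, cm _ y hy (hz0 y hy)]
    by_cases xE : x ∈ E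
    · by_contra hn
      refine nE' r hr rS ?_
      have : E = S ⊓ 𝐙[x] := le_antisymm (le_inf ES fun y hy =>
        mem_centralizer_singleton_iff.2 (Ec y hy x xE)) fun y hy => not_not.1 fun yE =>
          hn (c4 x (hs' y hy.1 yE x xE (mem_centralizer_singleton_iff.1 hy.2)))
      rw [this, ← cj_eq_iff, cj_inf, cj_of_mem_normalizer hr.2, ← centralizer_singleton_conj, e]
    exfalso
    obtain ⟨w, hw, wE⟩ := SetLike.not_le_iff_exists.1 fun e => nE' r hr rS (mem_normalizer_of_cj_le e)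
    have wS := cj_le_of_mem_normalizer ES hr.2 hw
    have w2 : w * w = 1 := by
      obtain ⟨y, hy, rfl⟩ := mem_cj_iff_exists.1 hw
      rw [conj_mul, ← pow_two, E2 y hy]; simp
    have h1 := hm x hx w wS xE wE
    have h2 : x * w * (x * w) = 1 := by rw [← pow_two, E2 _ h1]
    have h3 : w * (x * w) = x * w * w := by
      rw [mul_assoc x, w2, mul_one, ← mul_right_inj x, x2, ← h2]; group
    have rz : z ∈ cj(r, E) := hz.hz r hr.2 ▸ conj_mem_cj r (DE zD)
    have rt : t * z ∈ cj(r, E) := hz.conj_t' hT.pgrp hST hr rS ▸ conj_mem_cj r tE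
    have h4 : x * w ∈ cj(r, E) := by
      rcases hs' w wS wE _ h1 h3 with e | e | e | e <;> rw [e]
      exacts [one_mem _, (mul_mem_cancel_right rz).1 rt, rz, rt]
    rw [mul_mem_cancel_right hw, ← e, conj_mem_cj_iff] at h4
    exact xE h4
  have E2' : ∀ x ∈ E, x * x = 1 := fun x hx => by rw [← pow_two, E2 x hx]
  by_cases hT1 : T ⊓ 𝐍[S] ≤ S
  · refine hz.false_of_end hT hST ES E2' (by omega) hno (hT1.trans SD) ?_ zD htD
    rwa [le_antisymm hT1 (le_inf hST le_normalizer)]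
  obtain ⟨r, hr, rS⟩ := SetLike.not_le_iff_exists.1 hT1
  have rt := hz.conj_t' hT.pgrp hST hr rS
  have SD' : S ≤ 𝐍[cj(r, D)] := by
    rw [normalizer_cj, ← cj_of_mem_normalizer hr.2]; exact cj_mono r SD
  have D'S : D ⊔ cj(r, D) ≤ S := sup_le DS (cj_le_of_mem_normalizer DS hr.2)
  refine hz.false_of_end hT hST ES E2' (by omega) hno (D := D ⊔ cj(r, D)) (fun g hg => ?_) ?_
    (mem_sup_left zD) fun e => ?_
  · have h1 : r ∈ 𝐍[D ⊔ cj(r, D)] := by
      rw [← cj_eq_iff, cj_sup, ← cj_mul, sup_comm,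
        cj_of_mem_normalizer (SD (hz.mul_mem_S hT.pgrp hST hr rS hr rS))]
    by_cases gS : g ∈ S
    · exact le_normalizer_sup SD SD' gS
    · exact (mul_mem_cancel_right h1).1
        (le_normalizer_sup SD SD' (hz.mul_mem_S hT.pgrp hST hg gS hr rS))
  · have h1 : D < D ⊔ cj(r, D) := lt_of_le_of_ne le_sup_left fun e => nE' r hr rS
      (mem_normalizer_of_cj_le (cj_le_iff_forall.2 fun x hx => by
        have h2 : ∀ y ∈ D, r * y * r⁻¹ ∈ E := fun y hy =>
          DE (e.ge (mem_sup_right (conj_mem_cj r hy)))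
        rcases (hE x).1 hx with e | e
        · exact h2 x e
        · rw [← tt x, ← conj_mul, rt]
          exact mul_mem (mul_mem tE (DE zD)) (h2 _ e)))
    obtain ⟨m, hm⟩ := dvd_of_ch (a := 2) (h.syl.pgrp.to_le D'S) (Ch.one h1) hD.card_four.ge
    have h3 := relIndex_mul_relIndex ⊥ _ S bot_le D'S
    rw [relIndex_bot_left, relIndex_bot_left, hm, S16, mul_assoc] at h3
    rw [← relIndex_mul_relIndex _ S _ D'S (le_inf hST le_normalizer)]
    exact mul_dvd_mul (Dvd.intro_left m (by omega) : _ ∣ 2) (hz.relIndex_dvd hT.pgrp hST)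
  · obtain ⟨a, ha, b, hb, e'⟩ := (mem_sup_of_le_normalizer_left
      ((cj_le_of_mem_normalizer DS hr.2).trans SD)).1 e
    obtain ⟨d, hd, rfl⟩ := mem_cj_iff_exists.1 hb
    have h1 : t * (r * d * r⁻¹) = a := by
      rw [e', mul_assoc, conj_mul, Klein.mul_self hD hd]; simp
    refine mem_of_conj hz fus rt (y := r * d * r⁻¹) ?_ (h1 ▸ ha) (h1 ▸ Klein.mul_self hD ha)
    obtain ⟨n, -, e''⟩ := tr z zD d hd z1 fun e => htD (by simpa [e', e] using ha)
    exact (isConj_iff.2 ⟨n, e''⟩).trans (isConj_iff.2 ⟨r, rfl⟩)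

/-- the Sylow subgroup of `C(t)` is an abelian Sylow subgroup of `G` -/
theorem abelian (h : Cl t S L) (h4 : 2 ^ 2 ∣ Nat.card L)
    (sh : (∀ x ∈ S ⊓ L, x * x = 1) ∨ ∃ k, Nonempty (DC (S ⊓ L) k)) :
    IsSyl 2 S ⊤ ∧ ∀ x ∈ S, ∀ y ∈ S, x * y = y * x := by
  have hD := sh.resolve_right fun ⟨k, ⟨c⟩⟩ => h.false_of_dc c
  have tt : ∀ x, t * (t * x) = x := fun x => by rw [← mul_assoc, h.tt, one_mul]
  have tc : ∀ x ∈ S, t * x = x * t := fun x hx =>
    (mem_centralizer_singleton_iff.1 (h.syl.le hx)).symm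
  have htD : t ∉ S ⊓ L := fun e => h.tL e.2
  have two : ¬ Ch (S ⊓ L) S 2 → ∀ x ∈ S, x ∈ S ⊓ L ∨ t * x ∈ S ⊓ L := fun h2 x hx =>
    or_iff_not_imp_left.2 fun e => (mul_mem_iff_of_index_two (H := (S ⊓ L).subgroupOf S)
      (((Nat.dvd_prime Nat.prime_two).1 (relIndex_dvd_of_not_ch h.syl.pgrp inf_le_left
        h2)).resolve_left fun e => htD (relIndex_eq_one.1 e h.tS))
      (a := ⟨t, h.tS⟩) (b := ⟨x, hx⟩)).2 (iff_of_false htD e)
  have d4 : 2 ^ 2 ∣ Nat.card ↥(S ⊓ L) := by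
    obtain ⟨P, hP⟩ := h.sylD.exists_sylow
    rw [← Nat.card_congr (subgroupOfEquivOfLe h.sylD.le).toEquiv, ← hP]
    exact P.pow_dvd_card_of_pow_dvd_card h4
  have four : ¬ 2 ^ 3 ∣ Nat.card ↥(S ⊓ L) → IsKleinFour ↥(S ⊓ L) := fun e =>
    Misc.isKleinFour_iff.2 ⟨le_antisymm (not_lt.1 fun e' =>
      e (Misc.pow_succ_dvd_card_of_lt h.sylD.pgrp (k := 2) e')) (Nat.le_of_dvd Nat.card_pos d4),
      fun x hx => by rw [pow_two, hD x hx]⟩
  have hc : ∀ x ∈ S, ∀ y ∈ S, x * y = y * x := by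
    by_cases h8 : 2 ^ 3 ∣ Nat.card ↥(S ⊓ L)
    · refine Misc.comm_of_sq fun x hx => ?_
      rcases two (h.not_ch (h.ch5 h8) rfl) x hx with e | e
      · rw [pow_two, hD x e]
      · have := hD _ e
        rwa [mul_assoc, ← mul_assoc x, ← tc x hx, mul_assoc, tt, ← pow_two] at this
    · by_contra hn
      exact h.false_of_four (four h8) hn
  refine ⟨?_, hc⟩
  obtain ⟨T, hT, hST⟩ := exists_isSyl_ge h.syl.pgrp le_top
  by_cases e : S = T
  · rwa [e]
  exfalso
  by_cases h16 : 2 ^ 4 ∣ Nat.card S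
  · exact h.false_of_sixteen hc h16 hT.pgrp (lt_of_le_of_ne hST e)
  have h1 : S ⊓ L < S := lt_of_le_of_ne inf_le_left fun e => htD (e.ge h.tS)
  have h8 : ¬ 2 ^ 3 ∣ Nat.card ↥(S ⊓ L) := fun e =>
    h16 (dvd_of_ch h.syl.pgrp (Ch.one h1) (Nat.le_of_dvd Nat.card_pos e))
  refine h.false_of_eight (four h8) inf_le_left htD (two fun e =>
    h16 (dvd_of_ch (a := 2) h.syl.pgrp e (four h8).card_four.ge)) (fun a ha b hb a1 b1 => ?_)
    hT.pgrp (lt_of_le_of_ne hST e)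
  obtain ⟨n, hn, e⟩ := trans_of_ab h.pf h.sylD (fun _ h1 _ h2 => hc _ h1.1 _ h2.1)
    (by rw [(four h8).card_four]; omega) ha hb a1 b1
  exact ⟨n, ⟨h.LC hn.1, hn.2⟩, e⟩

end Cl

end Cfsg.Agent.Len
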