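import Cfsg.Agent.Len.Tools
import Cfsg.Agent.S0111

/-! Fusion and transfer arguments for an involution `t` with small Sylow subgroup of `C(t)`. -/

set_option autoImplicit false

namespace Cfsg.Agent.Len

open Subgroup Cfsg.Agent.PLocal.Amb Cfsg.Agent.FGS.CT2

variable {G : Type*} [Group G]

/-- `t` is an involution of a simple group of length at most 7, `S` is Sylow in `C(t)` -/
structure Cf (t : G) (S : Subgroup G) : Prop where
  simple : IsSimpleGroup G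
  na : ¬ IsMulCommutative G
  h8 : ¬ LG G 8
  tt : t * t = 1
  t1 : t ≠ 1
  syl : IsSyl 2 S 𝐙[t]
  tS : t ∈ S

variable [Finite G] {t : G} {S : Subgroup G}

namespace Cf

omit [Finite G] in
theorem syl_cj (h : Cf t S) (g : G) : IsSyl 2 cj(g, S) 𝐙[g * t * g⁻¹] := by
  rw [centralizer_singleton_conj]; exact h.syl.cj g

theorem card_le (h : Cf t S) {y : G} (hy : IsConj t y) {R : Subgroup G} (hR : IsPGroup 2 R)
    (hRy : R ≤ 𝐙[y]) : Nat.card R ≤ Nat.card S := by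
  obtain ⟨g, rfl⟩ := isConj_iff.1 hy
  rw [← card_cj g S]
  exact (h.syl_cj g).card_le hR hRy

theorem mem_of_comm (h : Cf t S) {y r : G} (hy : IsConj t y) (hS : S ≤ 𝐙[y]) {T : Subgroup G}
    (hT : IsPGroup 2 T) (hST : S ≤ T) (hr : r ∈ T) (hc : r * y * r⁻¹ = y) : r ∈ S := by
  rw [eq_of_le_of_card_ge (le_inf hST hS) (h.card_le hy (hT.to_le inf_le_left) inf_le_right)]
  exact ⟨hr, mem_Z.2 hc⟩

omit [Finite G] in
theorem ti (h : Cf t S) : t⁻¹ = t := inv_eq_of_mul_eq_one_right h.tt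

omit [Finite G] in
theorem tS_fix (h : Cf t S) {s : G} (hs : s ∈ S) : s * t * s⁻¹ = t := mem_Z.1 (h.syl.le hs)

omit [Finite G] in
theorem perf (h : Cf t S) : commutator G = ⊤ :=
  have := h.simple
  perfect_of_simple h.na

theorem ne_top (h : Cf t S) {A : Subgroup G} (hA : IsPGroup 2 A) : A ≠ ⊤ := fun e => by
  have := h.simple
  rw [e] at hA
  have := (hA.of_equiv topEquiv).isNilpotent
  exact not_solv h.na inferInstance

/-- the normaliser of `⟨t⟩ × V` centralizes `t` -/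
theorem ne_le (h : Cf t S) {V E H : Subgroup G} (hV : IsKleinFour V)
    (hE : ∀ x, x ∈ E ↔ x ∈ V ∨ t * x ∈ V) (hE2 : IsPGroup 2 E) (hH : H ≤ 𝐙[t] ⊓ 𝐍[V])
    (h16 : 16 ∣ Nat.card H) (tr : ∀ a ∈ V, ∀ b ∈ V, a ≠ 1 → b ≠ 1 → ∃ n ∈ H, n * a * n⁻¹ = b)
    (nc : ∀ g, g * t * g⁻¹ ∉ V) : 𝐍[E] ≤ 𝐙[t] := by
  have := h.simple
  intro g hg
  by_contra hgt
  have tE : t ∈ E := (hE t).2 (Or.inr (h.tt ▸ one_mem V))
  have h1 : ∀ k ∈ 𝐍[E], ∃ v ∈ V, k * t * k⁻¹ = t * v := fun k hk =>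
    ⟨_, ((hE _).1 (conj_mem_of_mem_normalizer hk tE)).resolve_left (nc k), by
      rw [← mul_assoc t, h.tt, one_mul]⟩
  have hHE : H ≤ 𝐍[E] := le_normalizer_iff_cj.2 fun n hn => cj_le_iff_forall.2 fun x hx => by
    refine (hE _).2 (((hE x).1 hx).imp (conj_mem_of_mem_normalizer (hH hn).2) fun e => ?_)
    have := conj_mem_of_mem_normalizer (hH hn).2 e
    rwa [← conj_mul, mem_Z.1 (hH hn).1] at this
  obtain ⟨a, ha, e⟩ := h1 g hg
  have a1 : a ≠ 1 := fun e' => hgt (mem_Z.2 (by rw [e, e', mul_one]))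
  have h2 := card_of_orbit h1 fun v hv => by
    by_cases v1 : v = 1
    · exact ⟨1, one_mem _, by simp [v1]⟩
    obtain ⟨n, hn, e'⟩ := tr a ha v hv a1 v1
    refine ⟨n * g, mul_mem (hHE hn) hg, ?_⟩
    rw [show n * g * t * (n * g)⁻¹ = n * (g * t * g⁻¹) * n⁻¹ by group, e, ← conj_mul, e',
      mem_Z.1 (hH hn).1]
  have h3 : 2 ^ 6 ∣ Nat.card 𝐍[E] := by
    rw [h2, hV.card_four]
    exact mul_dvd_mul_left 4 (h16.trans (card_dvd_of_le (le_inf hHE (hH.trans inf_le_left))))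
  exact h.h8 ((ch_pow_succ 2 h3 fun e => not_two_of_trans hV (hH.trans inf_le_right) tr
    (e.to_le hHE)).top (normalizer_ne_top (fun e => h.t1 (by rwa [e, mem_bot] at tE))
      (h.ne_top hE2)))

end Cf

/-- the centre of `S` is `⟨t, z⟩` and `z` is fixed by `N(S)` -/
structure Cz (t z : G) (S : Subgroup G) : Prop extends Cf t S where
  zS : z ∈ S
  zz : z * z = 1
  zt : z ≠ t
  hz : ∀ n ∈ 𝐍[S], n * z * n⁻¹ = z
  hZ : ∀ x ∈ S, S ≤ 𝐙[x] → x = 1 ∨ x = t ∨ x = z ∨ x = t * z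

namespace Cz

variable {z : G} {T : Subgroup G}

theorem not_conj (h : Cz t z S) (g : G) : g * t * g⁻¹ ≠ z := fun e => by
  have h1 := h.syl_cj g
  rw [e] at h1
  have h2 : S ≤ 𝐙[z] := fun s hs => mem_Z.2 (h.hz s (le_normalizer hs))
  obtain ⟨c, hc, e'⟩ := (h1.of_card_ge h.syl.pgrp h2 (card_cj g S).le).exists_cj_eq h1
  rw [← cj_mul, cj_eq_iff] at e'
  have h3 := h.hz _ (inv_mem e')
  refine h.zt ?_
  rw [← h3, ← mem_Z.1 hc, ← e]
  group

theorem conj_of_cent (h : Cz t z S) {g : G} (h1 : g * t * g⁻¹ ∈ S) (h2 : S ≤ 𝐙[g * t * g⁻¹]) :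
    g * t * g⁻¹ = t ∨ g * t * g⁻¹ = t * z := by
  rcases h.hZ _ h1 h2 with e | e | e | e
  · exact absurd (by simpa using e) h.t1
  · exact Or.inl e
  · exact absurd e (h.not_conj g)
  · exact Or.inr e

theorem conj_t (h : Cz t z S) {r : G} (hr : r ∈ 𝐍[S]) :
    r * t * r⁻¹ = t ∨ r * t * r⁻¹ = t * z := by
  refine h.conj_of_cent (conj_mem_of_mem_normalizer hr h.tS) ?_
  rw [centralizer_singleton_conj, ← cj_of_mem_normalizer hr]
  exact cj_mono r h.syl.le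

theorem conj_t' (h : Cz t z S) (hT : IsPGroup 2 T) (hST : S ≤ T) {r : G} (hr : r ∈ T ⊓ 𝐍[S])
    (hrS : r ∉ S) : r * t * r⁻¹ = t * z :=
  (h.conj_t hr.2).resolve_left fun e =>
    hrS (h.mem_of_comm (IsConj.refl t) h.syl.le hT hST hr.1 e)

theorem mul_mem_S (h : Cz t z S) (hT : IsPGroup 2 T) (hST : S ≤ T) {r s : G} (hr : r ∈ T ⊓ 𝐍[S])
    (hrS : r ∉ S) (hs : s ∈ T ⊓ 𝐍[S]) (hsS : s ∉ S) : r * s ∈ S := by
  refine h.mem_of_comm (IsConj.refl t) h.syl.le hT hST (mul_mem hr.1 hs.1) ?_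
  rw [show r * s * t * (r * s)⁻¹ = r * (s * t * s⁻¹) * r⁻¹ by group, h.conj_t' hT hST hs hsS,
    ← conj_mul, h.conj_t' hT hST hr hrS, h.hz r hr.2, mul_assoc, h.zz, mul_one]

theorem relIndex_dvd (h : Cz t z S) (hT : IsPGroup 2 T) (hST : S ≤ T) :
    S.relIndex (T ⊓ 𝐍[S]) ∣ 2 := by
  rw [relIndex, index_dvd_two_iff]
  by_cases hc : ∃ a : ↥(T ⊓ 𝐍[S]), (a : G) ∉ S
  · obtain ⟨a, ha⟩ := hc
    exact ⟨a, fun b => or_iff_not_imp_right.2 fun hb => h.mul_mem_S hT hST b.2 hb a.2 ha⟩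
  · exact ⟨1, fun b => Or.inr (not_not.1 fun hb => hc ⟨b, hb⟩)⟩

theorem false_of_end (h : Cz t z S) (hT : IsSyl 2 T ⊤) (hST : S ≤ T) {E D : Subgroup G}
    (hE : E ≤ S) (hE2 : ∀ x ∈ E, x * x = 1) (hE8 : 4 < Nat.card E)
    (hno : ∀ r ∈ T ⊓ 𝐍[S], r ∉ S → ∀ x ∈ S, x * x = 1 → r * x * r⁻¹ = x → S ≤ 𝐙[x])
    (hD : T ⊓ 𝐍[S] ≤ 𝐍[D]) (hD4 : D.relIndex (T ⊓ 𝐍[S]) ∣ 4) (hzD : z ∈ D) (htD : t ∉ D) :
    False := by
  have key : ∀ g, cj(g, S) ≤ T ⊓ 𝐍[S] → g * t * g⁻¹ = t ∨ g * t * g⁻¹ = t * z := by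
    intro g hg
    have c1 := (h.syl_cj g).le
    have t2 : g * t * g⁻¹ * (g * t * g⁻¹) = 1 := by rw [conj_mul, h.tt]; simp
    by_cases h1 : g * t * g⁻¹ ∈ S
    · refine h.conj_of_cent h1 ?_
      by_cases h2 : cj(g, S) ≤ S
      · rwa [eq_of_le_of_card_ge h2 (card_cj g S).ge] at c1
      obtain ⟨r, hr, hr'⟩ := SetLike.not_le_iff_exists.1 h2
      exact hno r (hg hr) hr' _ h1 t2 (mem_Z.1 (c1 hr))
    exfalso
    have hu := hg (conj_mem_cj g h.tS)
    generalize g * t * g⁻¹ = u at c1 t2 h1 hu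
    have h2 := h.conj_t' hT.pgrp hST hu h1
    have z1 : z ≠ 1 := fun e => h1 (h.mem_of_comm (IsConj.refl t) h.syl.le hT.pgrp hST hu.1
      (by rw [h2, e, mul_one]))
    have c : ∀ x ∈ S, x * x = 1 → u * x * u⁻¹ = x → x = 1 ∨ x = z := fun x hx h3 h4 => by
      rcases h.hZ x hx (hno u hu h1 x hx h3 h4) with e | e | e | e
      · exact Or.inl e
      · rw [e, h2] at h4
        exact absurd (by simpa using h4) z1
      · exact Or.inr e
      · rw [e, ← conj_mul, h2, h.hz u hu.2] at h4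
        exact absurd (by simpa using h4) z1
    have h3 : (cj(g, E) : Set G) ⊆ {1, z, u, u * z} := fun x hx => by
      have x2 : x * x = 1 := by
        obtain ⟨y, hy, rfl⟩ := mem_cj_iff_exists.1 hx
        rw [conj_mul, hE2 y hy]; simp
      have h4 := cj_mono g hE hx
      have h5 : x * u = u * x := mem_centralizer_singleton_iff.1 (c1 h4)
      simp only [Set.mem_insert_iff, Set.mem_singleton_iff]
      by_cases xS : x ∈ S
      · rcases c x xS x2 (by rw [← h5]; simp) with e | e <;> simp [e]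
      · have h6 : x = u * (u * x) := by rw [← mul_assoc, t2, one_mul]
        rcases c (u * x) (h.mul_mem_S hT.pgrp hST hu h1 (hg h4) xS)
          (by rw [mul_assoc, ← mul_assoc x, h5, mul_assoc u, x2, mul_one, t2])
          (by rw [mul_assoc u, ← h5, mul_inv_cancel_right, h5]) with e | e <;> rw [e] at h6 <;> simp [h6]
    have h4 := (Set.ncard_le_ncard h3).trans (Set.ncard_insert_le _ _)
    have h5 := Set.ncard_insert_le z ({u, u * z} : Set G)
    have h6 := Set.ncard_insert_le u ({u * z} : Set G)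
    rw [Set.ncard_singleton] at h6
    have h7 : (cj(g, E) : Set G).ncard = Nat.card E := card_cj g E
    omega
  have hS1 : S ≤ T ⊓ 𝐍[S] := le_inf hST le_normalizer
  have hT1 : T ⊓ 𝐍[S] = T := eq_of_inf_normalizer_le hT.pgrp inf_le_left fun g hg => by
    have h1 := cj_le_of_mem_normalizer hS1 hg.2
    refine ⟨hg.1, mem_normalizer_of_cj_le fun s hs => ?_⟩
    refine h.mem_of_comm (IsConj.refl t) h.syl.le hT.pgrp hST (h1 hs).1 ?_
    have h2 := mem_Z.1 ((h.syl_cj g).le hs)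
    rcases key g h1 with e | e <;> rw [e] at h2
    · exact h2
    · rwa [← conj_mul, h.hz s (h1 hs).2, mul_left_inj] at h2
  rw [hT1] at hD hD4 key
  have := normal_subgroupOf' hD
  let _ : CommGroup (T ⧸ D.subgroupOf T) :=
    { (inferInstance : Group (T ⧸ D.subgroupOf T)) with mul_comm := comm_of_card_dvd_four hD4 }
  have h1 := transfer_ext h.perf (P := T) (by
      rw [← relIndex_top_right, ← Nat.not_even_iff_odd, even_iff_two_dvd]
      exact hT.not_dvd_relIndex)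
    (QuotientGroup.mk' (D.subgroupOf T)) h.tt h.syl.pgrp
    (fun s hs => mem_centralizer_singleton_iff.1 (h.syl.le hs)) h.tS
    (a := QuotientGroup.mk ⟨t, hST h.tS⟩) fun g hg => by
      rw [QuotientGroup.mk'_apply, eq_comm, QuotientGroup.eq, mem_subgroupOf]
      change t⁻¹ * (g * t * g⁻¹) ∈ D
      rcases key g hg with e | e <;> rw [e]
      · simp
      · simpa using hzD
  rw [QuotientGroup.eq_one_iff] at h1
  exact htD h1

end Cz

end Cfsg.Agent.Len
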