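import Cfsg.Agent.Len.Tools
import Cfsg.Agent.Grp.Card
import Cfsg.Agent.Grp.CardProduct

/-! Tools for groups of length eight: extensions of index two, transfer for elements of order 4. -/

set_option autoImplicit false

namespace Cfsg.Agent.Len

open Subgroup Cfsg.Agent.PLocal.Amb Cfsg.Agent.FGS.CT2 MulAction
open scoped commutatorElement

variable {G : Type*} [Group G]

theorem mem_ext {Z : Subgroup G} {u : G} (hu : u ∈ 𝐍[Z]) (h2 : u * u ∈ Z) {x : G} :
    x ∈ Z ⊔ zpowers u ↔ x ∈ Z ∨ u * x ∈ Z := by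
  have hc : ∀ {y}, y ∈ Z → u * y * u⁻¹ ∈ Z := conj_mem_of_mem_normalizer hu
  have hc' : ∀ {y}, y ∈ Z → u⁻¹ * y * u ∈ Z := inv_conj_mem_of_mem_normalizer hu
  let K : Subgroup G :=
    { carrier := {x | x ∈ Z ∨ u * x ∈ Z}
      one_mem' := Or.inl (one_mem _)
      mul_mem' := by
        rintro x y (hx | hx) (hy | hy)
        · exact Or.inl (mul_mem hx hy)
        · exact Or.inr (by
            rw [show u * (x * y) = u * x * u⁻¹ * (u * y) by group]; exact mul_mem (hc hx) hy)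
        · exact Or.inr (by rw [← mul_assoc]; exact mul_mem hx hy)
        · exact Or.inl (by
            rw [show x * y = u⁻¹ * (u * x) * u * (u * u)⁻¹ * (u * y) by group]
            exact mul_mem (mul_mem (hc' hx) (inv_mem h2)) hy)
      inv_mem' := by
        rintro x (hx | hx)
        · exact Or.inl (inv_mem hx)
        · exact Or.inr (by
            rw [show u * x⁻¹ = u * (u * x)⁻¹ * u⁻¹ * (u * u) by group]
            exact mul_mem (hc (inv_mem hx)) h2) }
  refine ⟨fun h => (sup_le (fun y hy => Or.inl hy) (zpowers_le.2 (Or.inr h2)) : _ ≤ K) h, ?_⟩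
  rintro (h | h)
  · exact mem_sup_left h
  · rw [← inv_mul_cancel_left u x]
    exact mul_mem (inv_mem (mem_sup_right (mem_zpowers u))) (mem_sup_left h)

theorem relIndex_two {Z K : Subgroup G} {u : G} (hu : u ∈ K) (h1 : u ∉ Z)
    (h : ∀ x ∈ K, x ∈ Z ∨ u * x ∈ Z) : Z.relIndex K = 2 := by
  refine index_eq_two_iff'.2 ⟨⟨u, hu⟩, fun b => ?_⟩
  simp only [mem_subgroupOf, coe_mul]
  rcases h b b.2 with e | e
  · exact Or.inr ⟨e, fun e' => h1 (by simpa using mul_mem e' (inv_mem e))⟩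
  · exact Or.inl ⟨e, fun e' => h1 (by simpa using mul_mem e (inv_mem e'))⟩

theorem mul_mem_two {Z K : Subgroup G} (h : Z.relIndex K = 2) {x y : G} (hx : x ∈ K) (hy : y ∈ K)
    (h1 : x ∉ Z) (h2 : y ∉ Z) : x * y ∈ Z :=
  (mul_mem_iff_of_index_two (H := Z.subgroupOf K) h (a := ⟨x, hx⟩) (b := ⟨y, hy⟩)).2
    (iff_of_false h1 h2)

theorem card_two {Z K : Subgroup G} (hZ : Z ≤ K) (h : Z.relIndex K = 2) :
    Nat.card K = 2 * Nat.card Z := by
  rw [← Grp.card_mul_relIndex_of_le hZ, h, mul_comm]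

theorem relIndex_ext {Z : Subgroup G} {u : G} (hu : u ∈ 𝐍[Z]) (h2 : u * u ∈ Z) (h1 : u ∉ Z) :
    Z.relIndex (Z ⊔ zpowers u) = 2 :=
  relIndex_two (mem_sup_right (mem_zpowers u)) h1 fun _ => (mem_ext hu h2).1

/-- two involutions are conjugate or centralized by an involution -/
theorem inv_pair {H : Type*} [Group H] [Finite H] {a b : H} (ha : a * a = 1) (hb : b * b = 1) :
    (∃ g : H, g * a * g⁻¹ = b) ∨ ∃ u : H, u ≠ 1 ∧ u * a * u⁻¹ = a ∧ u * b * u⁻¹ = b := by
  have e1 : a * (a * b) * a⁻¹ = (a * b)⁻¹ := by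
    rw [← mul_assoc, ha, one_mul, mul_inv_rev, inv_eq_of_mul_eq_one_right hb]
  have e2 : ∀ k : ℕ, (a * b) ^ k * a * ((a * b) ^ k)⁻¹ = (a * b) ^ (2 * k) * a := fun k => by
    have : a * ((a * b) ^ k)⁻¹ * a⁻¹ = (a * b) ^ k := by
      rw [← inv_pow, ← conj_pow, ← conj_inv, e1, inv_inv]
    rw [mul_assoc, eq_mul_of_mul_inv_eq this, two_mul, pow_add, mul_assoc]
  have e3 : b = (a * b)⁻¹ * a := by
    rw [mul_inv_rev, inv_mul_cancel_right, inv_eq_of_mul_eq_one_right hb]
  have h0 := orderOf_pos (a * b)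
  have h1 := pow_orderOf_eq_one (a * b)
  rcases Nat.even_or_odd' (orderOf (a * b)) with ⟨k, hk | hk⟩
  · have h2 : (a * b) ^ k * a * ((a * b) ^ k)⁻¹ = a := by rw [e2, ← hk, h1, one_mul]
    refine Or.inr ⟨(a * b) ^ k, pow_ne_one_of_lt_orderOf (by omega) (by omega), h2, ?_⟩
    generalize a * b = c at *
    rw [e3, ← mul_assoc, ((Commute.refl c).inv_right.pow_left k).eq, mul_assoc, mul_assoc,
      ← mul_assoc _ a, h2]
  · refine Or.inl ⟨(a * b) ^ k, ?_⟩
    rw [hk, pow_succ] at h1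
    rw [e2, eq_inv_of_mul_eq_one_left h1, ← e3]

variable [Finite G]

/-- a cyclic group has at most one involution -/
theorem eq_of_sq_zpowers {σ x y : G} (hx : x ∈ zpowers σ) (hy : y ∈ zpowers σ) (xx : x * x = 1)
    (yy : y * y = 1) (x1 : x ≠ 1) (y1 : y ≠ 1) : x = y := by
  classical
  have := Fintype.ofFinite (zpowers σ)
  have h := IsCyclic.card_pow_eq_one_le (α := zpowers σ) (n := 2) two_pos
  by_contra hne
  have : ({1, ⟨x, hx⟩, ⟨y, hy⟩} : Finset (zpowers σ)) ⊆ Finset.univ.filter fun a => a ^ 2 = 1 := by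
    intro a ha
    simp only [Finset.mem_insert, Finset.mem_singleton] at ha
    rcases ha with rfl | rfl | rfl <;> simp [sq, Subtype.ext_iff, xx, yy]
  have h2 := Finset.card_le_card this
  rw [Finset.card_eq_three.2 ⟨_, _, _, by simpa [Subtype.ext_iff] using x1.symm,
    by simpa [Subtype.ext_iff] using y1.symm, by simpa [Subtype.ext_iff] using hne, rfl⟩] at h2
  omega

omit [Finite G] in
/-- non-squares generate a cyclic 2-group -/
theorem zpowers_eq_of_not_sq {σ τ : G} {k : ℕ} (h : σ ^ 2 ^ k = 1) (hτ : τ ∈ zpowers σ)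
    (h2 : τ ∉ zpowers (σ * σ)) : zpowers τ = zpowers σ := by
  refine le_antisymm (zpowers_le.2 hτ) (zpowers_le.2 ?_)
  obtain ⟨i, rfl⟩ := hτ
  rcases Int.even_or_odd' i with ⟨m, rfl | rfl⟩
  · exact absurd ⟨m, by simp only [zpow_mul, zpow_two]⟩ h2
  obtain ⟨u, v, e⟩ : IsCoprime (2 * m + 1) (2 ^ k) := IsCoprime.pow_right ⟨1, -m, by ring⟩
  refine ⟨u, ?_⟩
  have h3 : σ ^ ((2 : ℤ) ^ k * v) = 1 := by
    rw [zpow_mul, show ((2 : ℤ) ^ k) = ((2 ^ k : ℕ) : ℤ) by simp, zpow_natCast, h, one_zpow]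
  simp only
  rw [← zpow_mul, ← mul_one (σ ^ _), ← h3, ← zpow_add, mul_comm _ u, mul_comm _ v, e, zpow_one]

open Transfer Cocycle in
/-- Extremal transfer for elements of order four. -/
theorem transfer_four (hG : commutator G = ⊤) {P : Subgroup G} (hP : Odd P.index) {A : Type*}
    [CommGroup A] (hA : ∀ a : A, a * a = 1) (φ : P →* A) {u : G} (hu : u * u * (u * u) = 1)
    (hsq : ∀ (g : G) (hg : g⁻¹ * (u * u) * g ∈ P), φ ⟨_, hg⟩ = 1)
    {T : Subgroup G} (hT : IsPGroup 2 T) (hTu : ∀ t ∈ T, t * u = u * t) (huT : u ∈ T) {a : A}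
    (h : ∀ (g : G) (hg : cj(g, T) ≤ P), φ ⟨g * u * g⁻¹, hg (conj_mem_cj g huT)⟩ = a) : a = 1 := by
  classical
  have := Fintype.ofFinite (G ⧸ P)
  obtain ⟨c, hc, hcq⟩ := exists_transfer_cocycle P φ
  let V : (⊤ : Subgroup G) →* A := hc.hom ⊤ Finset.univ (fun _ _ _ _ => Finset.mem_univ _)
  let V' : G →* A := V.comp (Subgroup.topEquiv (G := G)).symm.toMonoidHom
  have hV1 : ∏ x, c u x = 1 := Abelianization.commutator_subset_ker V' (hG ▸ mem_top u)
  have hu4 : u ^ 2 ^ 2 = 1 := by rw [sq, pow_mul, sq, sq, hu]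
  let F : Finset (G ⧸ P) := Finset.univ.filter fun q => u • q = q
  have hF : ∀ q, q ∈ F ↔ q.out⁻¹ * u * q.out ∈ P := fun q => by
    simp only [F, Finset.mem_filter, Finset.mem_univ, true_and, smul_quot_eq_iff]
  have hv : ∀ (q : G ⧸ P) (g : G) (hg : g⁻¹ * u * g ∈ P), (g : G ⧸ P) = q →
      u • q = q ∧ c u q = φ ⟨_, hg⟩ := fun q g hg e => by
    have h3 : g⁻¹ * q.out ∈ P := by rw [← QuotientGroup.eq, QuotientGroup.out_eq', e]
    have h4 : q.out⁻¹ * u * q.out = (g⁻¹ * q.out)⁻¹ * (g⁻¹ * u * g) * (g⁻¹ * q.out) := by group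
    have h5 : u • q = q := smul_quot_eq_iff.2 (h4 ▸ mul_mem (mul_mem (inv_mem h3) hg) h3)
    obtain ⟨hm, he⟩ := hcq u q h5
    refine ⟨h5, ?_⟩
    have : (⟨_, hm⟩ : P) = (⟨_, h3⟩ : P)⁻¹ * ⟨_, hg⟩ * ⟨_, h3⟩ := Subtype.ext (by
      simp only [coe_mul, coe_inv, inv_inv]; exact h4)
    rw [he, this, map_mul, map_mul, map_inv, inv_mul_cancel_comm]
  have hFo : Odd F.card := by
    have h3 := Semireg.card_modEq_of_invariant (p := 2) (P := zpowers u)
      (isPGroup_zpowers ⟨2, hu4⟩) (Set.univ : Set (G ⧸ P)) (fun _ _ _ _ => Set.mem_univ _)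
    have h4 : Nat.card {x : G ⧸ P // x ∈ Set.univ ∧ ∀ g ∈ zpowers u, g • x = x} = F.card := by
      rw [← Nat.card_eq_finsetCard]
      refine Nat.card_congr (Equiv.subtypeEquivRight fun x => ?_)
      simp only [Set.mem_univ, true_and, F, Finset.mem_filter, Finset.mem_univ]
      exact ⟨fun h5 => h5 u (mem_zpowers u), fun h5 g hg => smul_eq_self_of_mem_zpowers hg h5⟩
    rw [h4, Nat.card_univ, ← index_eq_card] at h3
    rw [Nat.odd_iff] at hP ⊢
    rw [← hP]; exact h3.symm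
  have hprod : ∏ x, c u x = ∏ x ∈ F, c u x := by
    rw [← Finset.prod_filter_mul_prod_filter_not Finset.univ (fun q => u • q = q),
      hc.prod_eq_one (Y := Finset.univ.filter fun q => ¬ u • q = q), mul_one]
    · intro x hx
      simp only [Finset.mem_filter, Finset.mem_univ, true_and] at hx ⊢
      exact fun h3 => hx (MulAction.injective u h3)
    · intro x hx
      simp only [Finset.mem_filter, Finset.mem_univ, true_and] at hx
      have h3 : period u x ∣ 2 ^ 2 := (pow_smul_eq_iff_period_dvd).1 (by rw [hu4, one_smul])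
      obtain ⟨i, hi, h4⟩ := (Nat.dvd_prime_pow Nat.prime_two).1 h3
      interval_cases i
      · exact absurd (period_eq_one_iff.1 h4) hx
      · obtain ⟨hm, he⟩ := hcq _ x (pow_period_smul u x)
        rw [he]
        simp only [h4, pow_one, sq] at hm ⊢
        simpa using hsq x.out (by simpa using hm)
      · rw [h4, hu4, hc.one]
  have hev : ∀ b, b ≠ a → Even (F.filter fun q => c u q = b).card := fun b hb => by
    rw [even_iff_two_dvd]
    by_contra hd
    rw [← Nat.card_eq_finsetCard] at hd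
    obtain ⟨x, hx, hfix⟩ := Semireg.exists_fixed_of_invariant hT
      ((F.filter fun q => c u q = b : Finset _) : Set (G ⧸ P)) (fun t ht x hx => by
      simp only [Finset.coe_filter, Set.mem_ofPred_eq] at hx ⊢
      have h4 : (t * x.out)⁻¹ * u * (t * x.out) = x.out⁻¹ * u * x.out := by
        rw [show (t * x.out)⁻¹ * u * (t * x.out) = x.out⁻¹ * (t⁻¹ * (u * t)) * x.out by group,
          ← hTu t ht]
        simp
      have h1 := (hF x).1 hx.1
      obtain ⟨h5, h6⟩ := hv (t • x) (t * x.out) (h4 ▸ h1) (by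
        conv_rhs => rw [← QuotientGroup.out_eq' x]
        rfl)
      refine ⟨by simpa [F] using h5, ?_⟩
      rw [h6, ← hx.2, (hv x _ h1 (QuotientGroup.out_eq' x)).2]
      exact congrArg φ (Subtype.ext h4)) hd
    simp only [Finset.coe_filter, Set.mem_ofPred_eq] at hx
    have h7 : cj(x.out⁻¹, T) ≤ P := cj_le_iff_forall.2 fun t ht => by
      simpa using smul_quot_eq_iff.1 (hfix t ht)
    refine hb ?_
    rw [← h _ h7, ← hx.2, (hv x _ ((hF x).1 hx.1) (QuotientGroup.out_eq' x)).2]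
    exact congrArg φ (Subtype.ext (by simp))
  have hfib : ∀ b ∈ F.image (c u), ∏ x ∈ F with c u x = b, c u x = if b = a then a else 1 := by
    intro b hb
    obtain ⟨q, hq, rfl⟩ := Finset.mem_image.1 hb
    have h1 := hA (c u q)
    rw [Finset.prod_congr rfl fun x hx => (Finset.mem_filter.1 hx).2, Finset.prod_const]
    split_ifs with e
    · have h2 : Odd (F.filter fun x => c u x = c u q).card := by
        have h3 := Finset.card_eq_sum_card_image (c u) F
        rw [← Finset.add_sum_erase _ _ hb] at h3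
        have h4 : Even (∑ b ∈ (F.image (c u)).erase (c u q), (F.filter fun x => c u x = b).card) :=
          Finset.even_sum _ fun b hb => hev b (e ▸ Finset.ne_of_mem_erase hb)
        rw [h3] at hFo
        exact (Nat.odd_add.1 hFo).2 h4
      obtain ⟨k, hk⟩ := h2
      rw [hk, pow_succ, pow_mul, sq, h1, one_pow, one_mul, e]
    · obtain ⟨k, hk⟩ := hev _ e
      rw [hk, ← two_mul, pow_mul, sq, h1, one_pow]
  rw [hprod, ← Finset.prod_fiberwise_of_maps_to (g := c u) (t := F.image (c u))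
    fun x hx => Finset.mem_image_of_mem _ hx, Finset.prod_congr rfl hfib, Finset.prod_ite_eq'] at hV1
  split_ifs at hV1 with e
  · exact hV1
  · exfalso
    have h3 := Finset.card_eq_sum_card_image (c u) F
    have h4 : Even (∑ b ∈ F.image (c u), (F.filter fun x => c u x = b).card) :=
      Finset.even_sum _ fun b hb => hev b fun e' => e (e' ▸ hb)
    exact Nat.not_even_iff_odd.2 hFo (h3 ▸ h4)

/-- an element of order dividing four avoids a subgroup of index two -/
theorem mem_of_uniq (hG : commutator G = ⊤) {T T0 R : Subgroup G} (hT : Odd T.index)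
    (h0 : T0.relIndex T = 2) {w : G} (hw : w * w * (w * w) = 1)
    (hsq : w * w = 1 ∨ ∀ c ∈ T, c * c = 1 → c ∈ T0) (hR : IsPGroup 2 R) (hRT : R ≤ T)
    (hc : ∀ t ∈ R, t * w = w * t) (hwR : w ∈ R) (hu : ∀ g, cj(g, R) ≤ T → g ∈ T) : w ∈ T0 := by
  have := normal_of_index_eq_two h0
  let _ : CommGroup (T ⧸ T0.subgroupOf T) :=
    { (inferInstance : Group (T ⧸ T0.subgroupOf T)) with
      mul_comm := comm_of_card_dvd_four (by rw [← index_eq_card, ← relIndex, h0]; norm_num) }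
  have key := transfer_four hG hT (A := T ⧸ T0.subgroupOf T) (fun a => by
      obtain ⟨x, rfl⟩ := QuotientGroup.mk_surjective a
      rw [← QuotientGroup.mk_mul, QuotientGroup.eq_one_iff]
      exact mul_self_mem_of_index_two h0 x) (QuotientGroup.mk' _) hw (fun g hg => by
      rw [QuotientGroup.mk'_apply, QuotientGroup.eq_one_iff, mem_subgroupOf]
      rcases hsq with e | e
      · simp [e]
      · refine e _ hg ?_
        rw [show g⁻¹ * (w * w) * g * (g⁻¹ * (w * w) * g) = g⁻¹ * (w * w * (w * w)) * g by group, hw]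
        simp) hR hc hwR (a := QuotientGroup.mk' _ ⟨w, hRT hwR⟩) fun g hg => by
      have : (⟨g * w * g⁻¹, hg (conj_mem_cj g hwR)⟩ : T) =
        ⟨g, hu g hg⟩ * ⟨w, hRT hwR⟩ * (⟨g, hu g hg⟩ : T)⁻¹ := rfl
      rw [this, map_mul, map_mul, map_inv, mul_inv_cancel_comm]
  rwa [QuotientGroup.mk'_apply, QuotientGroup.eq_one_iff, mem_subgroupOf] at key

/-- an involution avoids a normal subgroup of index four -/
theorem mem_of_uniq' (hG : commutator G = ⊤) {T D R : Subgroup G} (hT : Odd T.index)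
    (hn : T ≤ 𝐍[D]) (h0 : D.relIndex T ∣ 4) {w : G} (hw : w * w = 1) (hR : IsPGroup 2 R)
    (hRT : R ≤ T) (hc : ∀ t ∈ R, t * w = w * t) (hwR : w ∈ R)
    (hu : ∀ g, cj(g, R) ≤ T → g ∈ T) : w ∈ D := by
  have := normal_subgroupOf' hn
  let _ : CommGroup (T ⧸ D.subgroupOf T) :=
    { (inferInstance : Group (T ⧸ D.subgroupOf T)) with mul_comm := comm_of_card_dvd_four h0 }
  have key := transfer_ext hG hT (A := T ⧸ D.subgroupOf T) (QuotientGroup.mk' _) hw hR hc hwR
    (a := QuotientGroup.mk' _ ⟨w, hRT hwR⟩) fun g hg => by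
      have : (⟨g * w * g⁻¹, hg (conj_mem_cj g hwR)⟩ : T) =
        ⟨g, hu g hg⟩ * ⟨w, hRT hwR⟩ * (⟨g, hu g hg⟩ : T)⁻¹ := rfl
      rw [this, map_mul, map_mul, map_inv, mul_inv_cancel_comm]
  rwa [QuotientGroup.mk'_apply, QuotientGroup.eq_one_iff, mem_subgroupOf] at key

end Cfsg.Agent.Len
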