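import Cfsg.Agent.Len.N1

/-! A tower of dihedral subgroups in a 2-group with a small centralizer. -/

set_option autoImplicit false

namespace Cfsg.Agent.Len

open Subgroup Cfsg.Agent.PLocal.Amb

variable {G : Type*} [Group G]

/-- `X = B × ⟨a, d⟩` is abelian of index two in its normaliser `X⟨s⟩` in `T` -/
structure Loc (T X B : Subgroup G) (a d s : G) : Prop where
  pg : IsPGroup 2 T
  XT : X ≤ T
  ab : ∀ x ∈ X, ∀ y ∈ X, x * y = y * x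
  aX : a ∈ X
  dX : d ∈ X
  aa : a * a = 1
  ss : s * s = 1
  dd : d * d = 1
  d1 : d ≠ 1
  sa : s * a * s⁻¹ = a * d
  sT : s ∈ T
  sN : s ∈ 𝐍[X]
  BX : B ≤ X
  Bs : ∀ β ∈ B, β * s = s * β
  dB : d ∉ B
  nor : ∀ p ∈ T, p ∈ 𝐍[X] → p ∈ X ∨ s * p ∈ X
  dec : ∀ y ∈ X, y ∈ B ∨ a * y ∈ B ∨ d * y ∈ B ∨ a * d * y ∈ B

/-- the dihedral group `⟨σ, a⟩` -/
abbrev DD (a σ : G) : Subgroup G := zpowers σ ⊔ zpowers a

/-- a stage of the tower -/
structure Tw (T B : Subgroup G) (a s r σ : G) : Prop where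
  rT : r ∈ T
  ra : r * a * r⁻¹ = a * σ
  sZ : a * s ∈ zpowers σ
  BN : B ≤ 𝐍[zpowers σ]
  rr : r * r ∈ DD a σ ⊔ B
  rN : r ∈ 𝐍[DD a σ ⊔ B]

theorem sq_mem_sq {σ ρ : G} (h : ρ ∈ zpowers σ) : ρ * ρ ∈ zpowers (σ * σ) := by
  obtain ⟨i, rfl⟩ := h
  exact ⟨i, (Commute.refl σ).mul_zpow i⟩

theorem eq_one_of_mem_sq {σ : G} {k : ℕ} (h : σ ^ 2 ^ k = 1) (h2 : σ ∈ zpowers (σ * σ)) :
    σ = 1 := by
  obtain ⟨i, e⟩ := h2
  obtain ⟨u, v, e'⟩ : IsCoprime (2 * i - 1) (2 ^ k) := IsCoprime.pow_right ⟨-1, i, by ring⟩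
  have h3 : σ ^ ((2 : ℤ) ^ k) = 1 := by
    rw [show ((2 : ℤ) ^ k) = ((2 ^ k : ℕ) : ℤ) by simp, zpow_natCast, h]
  have h4 : σ ^ (2 * i - 1) = 1 := by
    rw [zpow_sub, zpow_mul, zpow_two, zpow_one, mul_inv_eq_one]; exact e
  rw [← zpow_one σ, ← e', zpow_add, mul_comm u, mul_comm v, zpow_mul, zpow_mul, h3, h4]
  simp

theorem comm_Z {σ x y : G} (hx : x ∈ zpowers σ) (hy : y ∈ zpowers σ) : x * y = y * x := by
  obtain ⟨i, rfl⟩ := hx
  obtain ⟨j, rfl⟩ := hy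
  exact (Commute.refl σ).zpow_zpow i j

variable [Finite G] {T X B : Subgroup G} {a d s r σ : G}

theorem mem_normalizer_zpowers {g : G} (h : g * σ * g⁻¹ ∈ zpowers σ) : g ∈ 𝐍[zpowers σ] :=
  mem_normalizer_of_cj_le (by
    rw [MonoidHom.map_zpowers]; exact zpowers_le.2 h)

namespace Loc

variable (h : Loc T X B a d s)
include h

omit [Finite G] in
theorem ai : a⁻¹ = a := inv_eq_of_mul_eq_one_right h.aa

omit [Finite G] in
theorem as_ne : s * a ≠ a * s := fun e => h.d1 (by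
  have := h.sa
  rw [e, mul_inv_cancel_right] at this
  simpa using this.symm)

omit [Finite G] in
theorem as_sq : a * s * (a * s) = d := by
  have := h.sa
  rw [inv_eq_of_mul_eq_one_right h.ss] at this
  rw [show a * s * (a * s) = a * (s * a * s) by group, this, ← mul_assoc, h.aa, one_mul]

omit [Finite G] in
theorem sd : s * d = d * s := by
  rw [← h.as_sq]
  have e : s * (a * s) = (a * s)⁻¹ * s := by
    rw [mul_inv_rev, h.ai, inv_eq_of_mul_eq_one_right h.ss, mul_assoc]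
  have e2 : (a * s)⁻¹ * (a * s)⁻¹ = a * s * (a * s) := by
    rw [← mul_inv_rev, h.as_sq, inv_eq_of_mul_eq_one_right h.dd]
  rw [← mul_assoc, e, mul_assoc, e, ← mul_assoc, e2]

theorem cent {y g : G} (hy : y ∈ X) (hs : s * y ≠ y * s) (hg : g ∈ T) (hc : g * y = y * g) :
    g ∈ X := by
  have h1 : X ≤ T ⊓ 𝐙[y] := le_inf h.XT fun x hx =>
    mem_centralizer_singleton_iff.2 (h.ab x hx y hy)
  rw [eq_of_inf_normalizer_le (h.pg.to_le inf_le_left) h1 fun p hp => ?_]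
  · exact ⟨hg, mem_centralizer_singleton_iff.2 hc⟩
  · refine (h.nor p hp.1.1 hp.2).resolve_right fun e => hs ?_
    have h2 : p ∈ 𝐙[y] := hp.1.2
    have := mul_mem (show s * p ∈ 𝐙[y] from (h1 e).2) (inv_mem h2)
    rw [mul_inv_cancel_right] at this
    exact mem_centralizer_singleton_iff.1 this

theorem mem_nor {g : G} (hg : g ∈ T) (hX : g * a * g⁻¹ ∈ X) : g ∈ 𝐍[X] := by
  rw [← inv_mem_iff]
  refine mem_normalizer_of_cj_le (cj_le_iff_forall.2 fun x hx => h.cent h.aX h.as_ne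
    (mul_mem (mul_mem (inv_mem hg) (h.XT hx)) (inv_mem (inv_mem hg))) ?_)
  have := h.ab x hx _ hX
  calc g⁻¹ * x * g⁻¹⁻¹ * a = g⁻¹ * (x * (g * a * g⁻¹)) * g := by group
    _ = a * (g⁻¹ * x * g⁻¹⁻¹) := by rw [this]; group

theorem orb {g : G} (hg : g ∈ T) (hX : g * a * g⁻¹ ∈ X) : g ∈ X ∨ s * g ∈ X :=
  h.nor g hg (h.mem_nor hg hX)

omit [Finite G] in
theorem XR' (sZ : a * s ∈ zpowers σ) : X ≤ DD a σ ⊔ B := fun y hy => by
  have ha : a ∈ DD a σ ⊔ B := mem_sup_left (mem_sup_right (mem_zpowers a))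
  have hd : d ∈ DD a σ ⊔ B := mem_sup_left (mem_sup_left (h.as_sq ▸ mul_mem sZ sZ))
  rcases h.dec y hy with e | e | e | e
  · exact mem_sup_right e
  · exact (mul_mem_cancel_left ha).1 (mem_sup_right e)
  · exact (mul_mem_cancel_left hd).1 (mem_sup_right e)
  · exact (mul_mem_cancel_left (mul_mem ha hd)).1 (mem_sup_right e)

variable (w : Tw T B a s r σ)
include w

omit [Finite G] in
theorem σT : σ ∈ T := by
  rw [← inv_mul_cancel_left a σ, ← w.ra]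
  exact mul_mem (inv_mem (h.XT h.aX)) (mul_mem (mul_mem w.rT (h.XT h.aX)) (inv_mem w.rT))

omit [Finite G] in
theorem invZ {ρ : G} (hρ : ρ ∈ zpowers σ) : a * ρ * a⁻¹ = ρ⁻¹ := by
  obtain ⟨i, rfl⟩ := hρ
  have e : a * σ * (a * σ) = 1 := by rw [← w.ra, conj_mul, h.aa, mul_one, mul_inv_cancel]
  have e2 : a * σ * a⁻¹ = σ⁻¹ := by
    rw [h.ai, eq_inv_iff_mul_eq_one, mul_assoc, e]
  simp only
  rw [← conj_zpow, e2, inv_zpow]

theorem aN : a ∈ 𝐍[zpowers σ] :=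
  mem_normalizer_zpowers (by rw [h.invZ w (mem_zpowers σ)]; exact inv_mem (mem_zpowers σ))

theorem memD {x : G} : x ∈ DD a σ ↔ x ∈ zpowers σ ∨ a * x ∈ zpowers σ :=
  mem_ext (h.aN w) (h.aa ▸ one_mem _)

omit [Finite G] in
theorem dZ : d ∈ zpowers σ := h.as_sq ▸ mul_mem w.sZ w.sZ

omit [Finite G] in
theorem aZ : a ∉ zpowers σ := fun e => h.as_ne (by
  have := comm_Z e w.sZ
  rw [mul_assoc, mul_left_cancel_iff] at this
  exact this.symm)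

theorem BD : B ≤ 𝐍[DD a σ] := le_normalizer_sup w.BN fun β hβ =>
  mem_normalizer_zpowers (by rw [h.ab β (h.BX hβ) a h.aX, mul_inv_cancel_right]; exact mem_zpowers a)

theorem memR {x : G} (hx : x ∈ DD a σ ⊔ B) : ∃ δ ∈ DD a σ, ∃ β ∈ B, x = δ * β :=
  (mem_sup_of_le_normalizer_left (h.BD w)).1 hx

theorem eq_d {ρ : G} (hρ : ρ ∈ zpowers σ) (hc : a * ρ = ρ * a) : ρ = 1 ∨ ρ = d := by
  have := h.invZ w hρ
  rw [hc, mul_inv_cancel_right] at this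
  rw [or_iff_not_imp_left]
  exact fun e => eq_of_sq_zpowers hρ (h.dZ w) (by nth_rewrite 1 [this]; simp) h.dd e h.d1

theorem BD_one {β : G} (hβ : β ∈ B) (hD : β ∈ DD a σ) : β = 1 := by
  have c := h.ab a h.aX β (h.BX hβ)
  rcases (h.memD w).1 hD with e | e
  · exact (h.eq_d w e c).resolve_right fun e' => h.dB (e' ▸ hβ)
  · exfalso
    have h1 := h.Bs β hβ
    rcases h.eq_d w e (by rw [mul_assoc, c]) with e' | e'
    · rw [← inv_eq_of_mul_eq_one_right e', h.ai] at h1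
      exact h.as_ne h1.symm
    · rw [eq_inv_mul_of_mul_eq e', h.ai, mul_assoc, ← h.sd, ← mul_assoc, ← mul_assoc,
        mul_right_cancel_iff] at h1
      exact h.as_ne h1.symm

theorem RZ : DD a σ ⊔ B ≤ 𝐍[zpowers σ] :=
  sup_le (sup_le le_normalizer (zpowers_le.2 (h.aN w))) w.BN

omit [Finite G] in
theorem RT : DD a σ ⊔ B ≤ T :=
  sup_le (sup_le (zpowers_le.2 (h.σT w)) (zpowers_le.2 (h.XT h.aX))) (h.BX.trans h.XT)

omit [Finite G] in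
theorem XR : X ≤ DD a σ ⊔ B := h.XR' w.sZ

omit h [Finite G] in
theorem _root_.Cfsg.Agent.Len.Tw.sD : s ∈ DD a σ :=
  (mul_mem_cancel_left (mem_sup_right (mem_zpowers a))).1 (mem_sup_left w.sZ)

theorem Ra {x : G} (hx : x ∈ DD a σ ⊔ B) : ∃ ρ ∈ zpowers (σ * σ), x * a * x⁻¹ = a * ρ := by
  obtain ⟨δ, hδ, β, hβ, rfl⟩ := h.memR w hx
  have e : δ * β * a * (δ * β)⁻¹ = δ * a * δ⁻¹ := by
    rw [mul_assoc δ, h.ab β (h.BX hβ) a h.aX]; group
  have e1 : ∀ ρ ∈ zpowers σ, ρ * a * ρ⁻¹ = a * (ρ * ρ)⁻¹ := fun ρ hρ => by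
    have := h.invZ w (inv_mem hρ)
    rw [inv_inv] at this
    nth_rewrite 1 [← this]
    group
  rw [e]
  rcases (h.memD w).1 hδ with e | e
  · exact ⟨_, inv_mem (sq_mem_sq e), e1 δ e⟩
  · refine ⟨_, sq_mem_sq e, ?_⟩
    have := h.invZ w (mul_mem e e)
    calc δ * a * δ⁻¹ = a⁻¹ * ((a * δ) * a * (a * δ)⁻¹) * a := by group
      _ = a⁻¹ * (a * a) * (a * δ * (a * δ)) * (a⁻¹ * a) := by rw [e1 _ e, ← this]; group
      _ = _ := by rw [h.aa, mul_one, h.ai, h.aa, mul_one]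

omit [Finite G] in
theorem σ_sq : σ ∉ zpowers (σ * σ) := fun e => by
  obtain ⟨k, hk⟩ := isPGroup_iff.1 h.pg σ (h.σT w)
  have := h.dZ w
  rw [eq_one_of_mem_sq hk e] at this
  exact h.d1 (by simpa using this)

theorem rR : r ∉ DD a σ ⊔ B := fun e => by
  obtain ⟨ρ, hρ, e'⟩ := h.Ra w e
  rw [w.ra, mul_left_cancel_iff] at e'
  exact h.σ_sq w (e' ▸ hρ)

theorem rZ : r ∈ 𝐍[zpowers σ] := by
  obtain ⟨ρ, hρ, e⟩ := h.Ra w w.rr
  have e1 : r * σ * r⁻¹ = σ⁻¹ * ρ := by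
    have : σ = a⁻¹ * (r * a * r⁻¹) := by rw [w.ra]; group
    calc r * σ * r⁻¹ = (r * a * r⁻¹)⁻¹ * (r * r * a * (r * r)⁻¹) := by
          conv_lhs => rw [this]
          group
      _ = _ := by rw [e, w.ra]; group
  exact mem_normalizer_zpowers (e1 ▸ mul_mem (inv_mem (mem_zpowers σ))
    (zpowers_le.2 (mul_mem (mem_zpowers σ) (mem_zpowers σ)) hρ))

theorem idx : (DD a σ ⊔ B).relIndex (DD a σ ⊔ B ⊔ zpowers r) = 2 :=
  relIndex_ext w.rN w.rr (h.rR w)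

theorem QZ : DD a σ ⊔ B ⊔ zpowers r ≤ 𝐍[zpowers σ] := sup_le (h.RZ w) (zpowers_le.2 (h.rZ w))

omit [Finite G] in
theorem QT : DD a σ ⊔ B ⊔ zpowers r ≤ T := sup_le (h.RT w) (zpowers_le.2 w.rT)

/-- elements outside `R` interchange the two classes -/
theorem Qa {x : G} (hx : x ∈ DD a σ ⊔ B ⊔ zpowers r) (hR : x ∉ DD a σ ⊔ B) :
    ∃ τ, zpowers τ = zpowers σ ∧ x * a * x⁻¹ = a * τ := by
  have h1 := mul_mem_two (h.idx w) hx (inv_mem (mem_sup_right (mem_zpowers r))) hR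
    fun e => h.rR w (inv_mem_iff.1 e)
  obtain ⟨ρ, hρ, e⟩ := h.Ra w h1
  obtain ⟨k, hk⟩ := isPGroup_iff.1 h.pg σ (h.σT w)
  have hZ : zpowers (σ * σ) ≤ zpowers σ := zpowers_le.2 (mul_mem (mem_zpowers σ) (mem_zpowers σ))
  set y := x * r⁻¹
  refine ⟨ρ * (y * σ * y⁻¹), zpowers_eq_of_not_sq hk (mul_mem (hZ hρ)
    (conj_mem_of_mem_normalizer (h.RZ w h1) (mem_zpowers σ))) fun e' => h.σ_sq w ?_, ?_⟩
  · obtain ⟨i, e2⟩ := (mul_mem_cancel_left hρ).1 e'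
    have h2 := zpow_mem (sq_mem_sq (inv_conj_mem_of_mem_normalizer (h.RZ w h1) (mem_zpowers σ))) i
    have e3 : y⁻¹ * σ * y * (y⁻¹ * σ * y) = y⁻¹ * (σ * σ) * y⁻¹⁻¹ := by group
    simp only at e2
    rwa [e3, conj_zpow, e2, show y⁻¹ * (y * σ * y⁻¹) * y⁻¹⁻¹ = σ by group] at h2
  · calc x * a * x⁻¹ = y * (r * a * r⁻¹) * y⁻¹ := by simp only [y]; group
      _ = y * a * y⁻¹ * (y * σ * y⁻¹) := by rw [w.ra]; group
      _ = _ := by rw [e, mul_assoc]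

theorem Qa' {x : G} (hx : x ∈ DD a σ ⊔ B ⊔ zpowers r) : ∃ ρ ∈ zpowers σ, x * a * x⁻¹ = a * ρ := by
  by_cases hR : x ∈ DD a σ ⊔ B
  · obtain ⟨ρ, hρ, e⟩ := h.Ra w hR
    exact ⟨ρ, zpowers_le.2 (mul_mem (mem_zpowers σ) (mem_zpowers σ)) hρ, e⟩
  · obtain ⟨τ, hτ, e⟩ := h.Qa w hx hR
    exact ⟨τ, hτ ▸ mem_zpowers τ, e⟩

theorem QD : DD a σ ⊔ B ⊔ zpowers r ≤ 𝐍[DD a σ] := fun x hx =>
  mem_normalizer_of_cj_le (by
    rw [cj_sup, cj_of_mem_normalizer (h.QZ w hx), MonoidHom.map_zpowers]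
    obtain ⟨ρ, hρ, e⟩ := h.Qa' w hx
    refine sup_le le_sup_left (zpowers_le.2 ?_)
    change x * a * x⁻¹ ∈ _
    rw [e]
    exact mul_mem (mem_sup_right (mem_zpowers a)) (mem_sup_left hρ))

omit [Finite G] in
theorem trans {ρ : G} (hρ : ρ ∈ zpowers σ) :
    ∃ q ∈ DD a σ ⊔ B ⊔ zpowers r, q * a * q⁻¹ = a * ρ := by
  obtain ⟨i, rfl⟩ := hρ
  have hm : ∀ m : ℤ, (σ ^ m)⁻¹ ∈ DD a σ ⊔ B ⊔ zpowers r := fun m =>
    mem_sup_left (mem_sup_left (mem_sup_left (inv_mem ⟨m, rfl⟩)))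
  have e : ∀ m : ℤ, (σ ^ m)⁻¹ * a = a * σ ^ m := fun m => by
    rw [← h.invZ w ⟨m, rfl⟩, inv_mul_cancel_right]
  rcases Int.even_or_odd' i with ⟨m, rfl | rfl⟩
  · refine ⟨_, hm m, ?_⟩
    rw [e]; group
  · refine ⟨_, mul_mem (hm m) (mem_sup_right (mem_zpowers r)), ?_⟩
    calc (σ ^ m)⁻¹ * r * a * ((σ ^ m)⁻¹ * r)⁻¹ = (σ ^ m)⁻¹ * (r * a * r⁻¹) * σ ^ m := by group
      _ = _ := by rw [w.ra, ← mul_assoc, e]; group

theorem sq_one {δ β : G} (hδ : δ ∈ DD a σ) (hβ : β ∈ B) (e : δ * β * (δ * β) = 1) : β * β = 1 := by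
  refine h.BD_one w (mul_mem hβ hβ) ?_
  rw [show β * β = (δ * (β * δ * β⁻¹))⁻¹ * (δ * β * (δ * β)) by group, e, mul_one]
  exact inv_mem (mul_mem hδ (conj_mem_of_mem_normalizer (h.BD w hβ) hδ))

theorem mem_Q {g : G} (hg : g ∈ T) (hR : g * a * g⁻¹ ∈ DD a σ ⊔ B) :
    g ∈ DD a σ ⊔ B ⊔ zpowers r := by
  have key : ∀ g ∈ T, g * a * g⁻¹ ∈ X → g ∈ DD a σ ⊔ B ⊔ zpowers r := fun g hg hX =>
    mem_sup_left ((h.orb hg hX).elim (fun e => h.XR w e) fun e =>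
      (mul_mem_cancel_left (mem_sup_left w.sD)).1 (h.XR w e))
  obtain ⟨δ, hδ, β, hβ, e⟩ := h.memR w hR
  have e1 : δ * β * (δ * β) = 1 := by rw [← e, conj_mul, h.aa, mul_one, mul_inv_cancel]
  have e2 := h.sq_one w hδ hβ e1
  have e3 : β * δ * β⁻¹ = δ⁻¹ := by
    rw [← mul_eq_one_iff_eq_inv', inv_eq_of_mul_eq_one_right e2, ← e1]; group
  rcases (h.memD w).1 hδ with e4 | e4
  · refine key g hg (e ▸ mul_mem (h.cent (mul_mem h.aX (h.BX hβ)) (fun e5 => h.as_ne ?_)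
      (h.RT w (mem_sup_left hδ)) ?_) (h.BX hβ))
    · rwa [mul_assoc, h.Bs β hβ, ← mul_assoc, ← mul_assoc, mul_right_cancel_iff] at e5
    · have := h.invZ w (inv_mem e4)
      rw [inv_inv, ← e3] at this
      nth_rewrite 1 [← this]
      group
  · obtain ⟨q, hq, e5⟩ := h.trans w e4
    rw [← mul_assoc, h.aa, one_mul] at e5
    have hqT := h.QT w hq
    have e6 : β * δ = δ * β := by
      rw [← e5, conj_inv, h.ai, e5] at e3
      exact mul_inv_eq_iff_eq_mul.1 e3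
    rw [← mul_inv_cancel_left q g]
    refine mul_mem hq (key _ (mul_mem (inv_mem hqT) hg) ?_)
    have e7 : q⁻¹ * g * a * (q⁻¹ * g)⁻¹ = a * (q⁻¹ * β * q) := by
      calc q⁻¹ * g * a * (q⁻¹ * g)⁻¹ = q⁻¹ * (g * a * g⁻¹) * q := by group
        _ = _ := by rw [e, ← e5]; group
    rw [e7]
    refine mul_mem h.aX (h.cent h.aX h.as_ne
      (mul_mem (mul_mem (inv_mem hqT) (h.XT (h.BX hβ))) hqT) ?_)
    calc q⁻¹ * β * q * a = q⁻¹ * (β * (q * a * q⁻¹)) * q := by group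
      _ = _ := by rw [e5, e6, ← e5]; group

theorem step (hne : DD a σ ⊔ B ⊔ zpowers r ≠ T) :
    ∃ y σ', Tw T B a s y σ' ∧ DD a σ' ⊔ B = DD a σ ⊔ B ⊔ zpowers r := by
  set Q := DD a σ ⊔ B ⊔ zpowers r with hQ
  obtain ⟨y, ⟨yT, yN⟩, yQ, yy⟩ := exists_sq_mem' (h.pg.to_le inf_le_left)
    (lt_inf_normalizer h.pg (lt_of_le_of_ne (h.QT w) hne)).not_ge
  have aQ : a ∈ Q := mem_sup_left (h.XR w h.aX)
  have bQ := conj_mem_of_mem_normalizer yN aQ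
  have bR : y * a * y⁻¹ ∉ DD a σ ⊔ B := fun e => yQ (h.mem_Q w yT e)
  have bQ' := conj_mem_of_mem_normalizer (inv_mem yN) aQ
  have bR' : y⁻¹ * a * y⁻¹⁻¹ ∉ DD a σ ⊔ B := fun e =>
    yQ (inv_mem_iff.1 (h.mem_Q w (inv_mem yT) e))
  obtain ⟨τ, hτ, e⟩ := h.Qa w bQ bR
  obtain ⟨τ', hτ', e'⟩ := h.Qa w bQ' bR'
  have bi : (y * a * y⁻¹)⁻¹ = y * a * y⁻¹ := by rw [conj_inv, h.ai]
  set b := y * a * y⁻¹ with hb
  have e1 : a * b * (a * b) = τ := by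
    rw [bi] at e
    rw [show a * b * (a * b) = a * (b * a * b) by group, e, ← mul_assoc, h.aa, one_mul]
  have hZ : zpowers σ ≤ zpowers (a * b) := by
    rw [← hτ, ← e1]; exact zpowers_le.2 (mul_mem (mem_zpowers _) (mem_zpowers _))
  have yZ : y ∈ 𝐍[zpowers σ] := by
    rw [← hτ']
    refine mem_normalizer_zpowers ?_
    have : y * τ' * y⁻¹ = τ⁻¹ := by
      calc y * τ' * y⁻¹ = b⁻¹ * (y * (a * τ') * y⁻¹) := by simp only [hb]; group
        _ = b⁻¹ * a * b * a⁻¹ := by rw [← e']; simp only [hb]; group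
        _ = _ := by rw [← e1, bi, h.ai, mul_inv_rev, mul_inv_rev, bi, h.ai]; group
    rw [this, hτ', ← hτ]
    exact inv_mem (mem_zpowers τ)
  have hR : DD a (a * b) ⊔ B = Q := by
    have h1 : DD a σ ⊔ B ≤ DD a (a * b) ⊔ B := sup_le_sup_right (sup_le_sup_right hZ _) _
    have h2 : b ∈ DD a (a * b) ⊔ B := mem_sup_left
      ((mul_mem_cancel_left (mem_sup_right (mem_zpowers a))).1 (mem_sup_left (mem_zpowers _)))
    refine le_antisymm (sup_le (sup_le (zpowers_le.2 (mul_mem aQ bQ)) (zpowers_le.2 aQ))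
      (le_sup_right.trans le_sup_left)) fun x hx => ?_
    by_cases hx' : x ∈ DD a σ ⊔ B
    · exact h1 hx'
    · exact (mul_mem_cancel_left h2).1 (h1 (mul_mem_two (h.idx w) bQ hx bR hx'))
  refine ⟨y, a * b, ⟨yT, by rw [← mul_assoc, h.aa, one_mul], hZ w.sZ, fun β hβ => ?_,
    hR ▸ yy, hR ▸ yN⟩, hR⟩
  obtain ⟨ρ, hρ, e2⟩ := h.Qa' w (inv_conj_mem_of_mem_normalizer yN
    (mem_sup_left (mem_sup_right hβ)))
  refine mem_normalizer_zpowers ?_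
  have : β * (a * b) * β⁻¹ = a * b * (y * ρ * y⁻¹) := by
    calc β * (a * b) * β⁻¹ = a * (y * (y⁻¹ * β * y * a * (y⁻¹ * β * y)⁻¹) * y⁻¹) := by
          rw [← mul_assoc, h.ab β (h.BX hβ) a h.aX]; simp only [hb]; group
      _ = _ := by rw [e2]; simp only [hb]; group
  rw [this]
  exact mul_mem (mem_zpowers _) (hZ (conj_mem_of_mem_normalizer yZ hρ))

theorem exists_top : ∃ y σ', Tw T B a s y σ' ∧ DD a σ' ⊔ B ⊔ zpowers y = T := by
  generalize hR : DD a σ ⊔ B = R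
  induction R using WellFoundedGT.induction generalizing r σ with
  | ind R ih =>
  by_cases hne : DD a σ ⊔ B ⊔ zpowers r = T
  · exact ⟨r, σ, w, hne⟩
  obtain ⟨y, σ', w', e⟩ := h.step w hne
  refine ih _ ?_ w' e
  rw [← hR]
  exact lt_of_le_of_ne le_sup_left fun e' => h.rR w (e' ▸ mem_sup_right (mem_zpowers r))

theorem card_D : Nat.card (DD a σ) = 2 * orderOf σ := by
  rw [card_two le_sup_left (relIndex_ext (h.aN w) (h.aa ▸ one_mem _) (h.aZ w)), Nat.card_zpowers]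

theorem card_Q : Nat.card ↥(DD a σ ⊔ B ⊔ zpowers r) = 2 * (Nat.card B * Nat.card (DD a σ)) := by
  have := Grp.card_sup_mul_card_inf_of_le_normalizer (h.BD w)
  rw [show B ⊓ DD a σ = ⊥ from (eq_bot_iff_forall _).2 fun x hx => h.BD_one w hx.1 hx.2,
    card_bot, mul_one, sup_comm] at this
  rw [card_two le_sup_left (h.idx w), this]

/-- involutions outside `R` invert `σ` -/
theorem inverts {c : G} (hc : c ∈ DD a σ ⊔ B ⊔ zpowers r) (hR : c ∉ DD a σ ⊔ B)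
    (cc : c * c = 1) : c * σ * c⁻¹ = σ⁻¹ := by
  obtain ⟨τ, hτ, e⟩ := h.Qa w hc hR
  obtain ⟨i, rfl⟩ : σ ∈ zpowers τ := hτ ▸ mem_zpowers σ
  have ci := inv_eq_of_mul_eq_one_right cc
  have e1 : c * τ * c⁻¹ = τ⁻¹ := by
    calc c * τ * c⁻¹ = (c * a * c⁻¹)⁻¹ * (c * (a * τ) * c⁻¹) := by group
      _ = (a * τ)⁻¹ * (c * c * a * (c * c)⁻¹) := by rw [← e]; group
      _ = _ := by rw [cc]; group
  simp only
  rw [← conj_zpow, e1, inv_zpow]

end Loc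

end Cfsg.Agent.Len
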