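import Cfsg.Agent.Len.N2
import Cfsg.Agent.Perm.Sub3

/-! A maximal intersection of Sylow 2-subgroups in a simple group of length eight. -/

set_option autoImplicit false

namespace Cfsg.Agent.Len

open Subgroup Cfsg.Agent.PLocal.Amb

variable {G : Type*} [Group G]

variable (G) in
/-- simple of length at most eight, Sylow 2-subgroups of order 128 -/
structure Hy : Prop where
  simple : IsSimpleGroup G
  na : ¬ IsMulCommutative G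
  h9 : ¬ LG G 9
  card : ∀ T : Subgroup G, IsSyl 2 T ⊤ → Nat.card T = 2 ^ 7

/-- `X` is a maximal Sylow intersection whose centralizer is a 2-group -/
structure Cr (T X : Subgroup G) : Prop where
  syl : IsSyl 2 T ⊤
  XT : X ≤ T
  un : ∀ Y, X < Y → ∀ T1 T2, IsSyl 2 T1 ⊤ → IsSyl 2 T2 ⊤ → Y ≤ T1 → Y ≤ T2 → T1 = T2
  two : ∃ T2, IsSyl 2 T2 ⊤ ∧ X ≤ T2 ∧ T2 ≠ T
  cp : IsPGroup 2 𝐂[X]

/-- involutions of the centre -/
def Om (X : Subgroup G) : Subgroup G where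
  carrier := {v | v ∈ X ∧ v ∈ 𝐂[X] ∧ v * v = 1}
  one_mem' := ⟨one_mem _, one_mem _, mul_one _⟩
  mul_mem' := fun {x y} hx hy => ⟨mul_mem hx.1 hy.1, mul_mem hx.2.1 hy.2.1, by
    rw [mul_assoc, ← mul_assoc y, hx.2.1 y hy.1, mul_assoc, hy.2.2, mul_one, hx.2.2]⟩
  inv_mem' := fun {x} hx => ⟨inv_mem hx.1, inv_mem hx.2.1, by rw [← mul_inv_rev, hx.2.2, inv_one]⟩

theorem Om.comm {X : Subgroup G} {v x : G} (hv : v ∈ Om X) (hx : x ∈ X) : x * v = v * x :=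
  hv.2.1 x hx

theorem Om.conj {X : Subgroup G} {v g : G} (hv : v ∈ Om X) (hg : g ∈ 𝐍[X]) :
    g * v * g⁻¹ ∈ Om X :=
  ⟨conj_mem_of_mem_normalizer hg hv.1,
    conj_mem_of_mem_normalizer (normalizer_le_normalizer_centralizer X hg) hv.2.1,
    by rw [conj_mul, hv.2.2, mul_one, mul_inv_cancel]⟩

/-- `s` centralizes a subgroup of index at most two -/
def Tv (V : Subgroup G) (s : G) : Prop :=
  ∀ v ∈ V, ∀ w ∈ V, s * v * s⁻¹ ≠ v → s * w * s⁻¹ ≠ w → s * (v * w) * s⁻¹ = v * w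

theorem Tv.conj {V : Subgroup G} {s n : G} (h : Tv V s) (hn : ∀ v ∈ V, n⁻¹ * v * n⁻¹⁻¹ ∈ V) :
    Tv V (n * s * n⁻¹) := fun v hv w hw h1 h2 => by
  have e : ∀ v, n * s * n⁻¹ * v * (n * s * n⁻¹)⁻¹ = v ↔
      s * (n⁻¹ * v * n⁻¹⁻¹) * s⁻¹ = n⁻¹ * v * n⁻¹⁻¹ := fun v => by
    rw [← mul_left_cancel_iff (a := n⁻¹), ← mul_right_cancel_iff (a := n⁻¹⁻¹),
      show n⁻¹ * (n * s * n⁻¹ * v * (n * s * n⁻¹)⁻¹) * n⁻¹⁻¹ =
        s * (n⁻¹ * v * n⁻¹⁻¹) * s⁻¹ by group]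
  rw [Ne, e] at h1 h2
  rw [e, show n⁻¹ * (v * w) * n⁻¹⁻¹ = n⁻¹ * v * n⁻¹⁻¹ * (n⁻¹ * w * n⁻¹⁻¹) by group]
  exact h _ (hn v hv) _ (hn w hw) h1 h2

variable [Finite G] {T X : Subgroup G}

theorem tv_of_card {s : G} (hs : s ∈ 𝐍[X]) (ss : s * s ∈ X) (h8 : Nat.card (Om X) ≤ 8) :
    Tv (Om X) s := fun v hv w hw h1 h2 => by
  by_contra h3
  let f : Om X →* Om X := MonoidHom.mk' (fun v => ⟨v * (s * v * s⁻¹),
    mul_mem v.2 (Om.conj v.2 hs)⟩) fun x y => Subtype.ext (by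
      simp only [coe_mul]
      rw [← conj_mul, mul_assoc, mul_assoc (x : G), ← mul_assoc (y : G), ← mul_assoc (s * x * s⁻¹),
        Om.comm y.2 (Om.conj x.2 hs).1])
  have hk : ∀ x : Om X, f x = 1 ↔ s * x * s⁻¹ = x := fun x => by
    rw [Subtype.ext_iff]
    change (x : G) * (s * x * s⁻¹) = 1 ↔ _
    rw [mul_eq_one_iff_eq_inv', inv_eq_of_mul_eq_one_right x.2.2.2]
  have hr : f.range ≤ f.ker := by
    rintro _ ⟨x, rfl⟩
    rw [MonoidHom.mem_ker, hk]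
    change s * (x * (s * x * s⁻¹)) * s⁻¹ = x * (s * x * s⁻¹)
    rw [show s * (x * (s * x * s⁻¹)) * s⁻¹ =
      s * x * s⁻¹ * (s * s * x * (s * s)⁻¹) by group, Om.comm x.2 ss, mul_inv_cancel_right,
      Om.comm x.2 (Om.conj x.2 hs).1]
  have h4 : 2 < Nat.card f.range := by
    have := Fintype.ofFinite f.range
    rw [Nat.card_eq_fintype_card, Fintype.two_lt_card_iff]
    refine ⟨1, ⟨_, ⟨v, hv⟩, rfl⟩, ⟨_, ⟨w, hw⟩, rfl⟩, fun e => h1 ((hk ⟨v, hv⟩).1 ?_),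
      fun e => h2 ((hk ⟨w, hw⟩).1 ?_), fun e => h3 ((hk (⟨v, hv⟩ * ⟨w, hw⟩)).1 ?_)⟩
    · exact (congrArg Subtype.val e).symm
    · exact (congrArg Subtype.val e).symm
    · rw [map_mul, show f ⟨v, hv⟩ = f ⟨w, hw⟩ from congrArg Subtype.val e]
      exact Subtype.ext (f ⟨w, hw⟩).2.2.2
  have h5 := card_le_of_le hr
  have h6 := f.ker.index_mul_card
  rw [index_ker] at h6
  change Nat.card f.range * _ = _ at h6
  nlinarith

namespace Hy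

variable (h : Hy G)
include h

theorem ne_top {A : Subgroup G} (hA : IsPGroup 2 A) : A ≠ ⊤ := fun e => by
  have := h.simple
  rw [e] at hA
  have := (hA.of_equiv topEquiv).isNilpotent
  exact not_solv h.na inferInstance

theorem max (hT : IsSyl 2 T ⊤) {M : Subgroup G} (h1 : T ≤ M) (h2 : M ≠ ⊤) : M = T := by
  by_contra e
  exact h.h9 (((ch_two (h.card T hT).symm.dvd).step (lt_of_le_of_ne h1 (Ne.symm e))).top h2)

theorem nor_eq (hT : IsSyl 2 T ⊤) {Y : Subgroup G} (h1 : Y ≠ ⊥) (h2 : Y ≤ T) (h3 : T ≤ 𝐍[Y]) :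
    𝐍[Y] = T :=
  have := h.simple
  h.max hT h3 (normalizer_ne_top h1 (h.ne_top (hT.pgrp.to_le h2)))

theorem cent_eq (hT : IsSyl 2 T ⊤) {z : G} (h1 : z ≠ 1) (h2 : T ≤ 𝐙[z]) : 𝐙[z] = T :=
  have := h.simple
  h.max hT h2 (cent_ne_top h.na h1)

omit [Finite G] in
theorem ne_bot (hT : IsSyl 2 T ⊤) : T ≠ ⊥ := fun e => by
  have := h.card T hT
  rw [e, card_bot] at this
  omega

theorem mem_of_cj (hT : IsSyl 2 T ⊤) {g : G} (e : cj(g, T) = T) : g ∈ T :=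
  h.nor_eq hT (h.ne_bot hT) le_rfl le_normalizer ▸ cj_eq_iff.1 e

theorem exists_z (hT : IsSyl 2 T ⊤) : ∃ z ∈ T, z ≠ 1 ∧ z * z = 1 ∧ 𝐙[z] = T := by
  obtain ⟨z, hz, h1, h2⟩ := exists_sq_mem' (S := ⊥) (hT.pgrp.to_le (inf_le_left (b := 𝐂[T])))
    fun e => inf_centralizer_ne_bot hT.pgrp hT.pgrp le_normalizer (h.ne_bot hT) (le_bot_iff.1 e)
  rw [mem_bot] at h1 h2
  exact ⟨z, hz.1, h1, h2, h.cent_eq hT h1 fun t ht =>
    mem_centralizer_singleton_iff.2 (hz.2 t ht)⟩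

theorem exists_cr : ∃ T X : Subgroup G, Cr T X := by
  have := h.simple
  obtain ⟨S⟩ : Nonempty (Sylow 2 G) := inferInstance
  have hT := isSyl_top S
  obtain ⟨z, hz, z1, zz, hc⟩ := h.exists_z hT
  obtain ⟨g, hg, hne⟩ : ∃ g, g * z * g⁻¹ ∈ S ∧ g * z * g⁻¹ ≠ z := by
    by_contra hn
    push Not at hn
    obtain ⟨N, hN, h1, h2⟩ := S0215.result S z (orderOf_eq_prime (by rw [sq, zz]) z1) hz hn
    rcases hN.eq_bot_or_eq_top with rfl | rfl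
    · refine h.ne_top hT.pgrp (hc ▸ (eq_top_iff' _).2 fun g => mem_centralizer_singleton_iff.2 ?_)
      have := mem_bot.1 (h2 g)
      rw [mul_inv_eq_one, mul_inv_eq_iff_eq_mul] at this
      exact this.symm
    · rw [card_top] at h1
      exact Nat.not_even_iff_odd.2 h1 (even_iff_two_dvd.2 ((by norm_num : 2 ∣ 2 ^ 2).trans
        (four_dvd h.na)))
  have h1 : z ∈ cj(g, (S : Subgroup G)) := by
    rw [← hc, ← centralizer_singleton_conj, mem_centralizer_singleton_iff]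
    exact (mem_centralizer_singleton_iff.1 (hc ▸ hg : _ ∈ 𝐙[z])).symm
  obtain ⟨X, ⟨zX, T1, T2, s1, s2, hne', l1, l2⟩, hmax⟩ := Set.Finite.exists_maximal
    (s := {X : Subgroup G | z ∈ X ∧ ∃ T1 T2, IsSyl 2 T1 ⊤ ∧ IsSyl 2 T2 ⊤ ∧ T2 ≠ T1 ∧ X ≤ T1 ∧ X ≤ T2})
    (Set.toFinite _) ⟨zpowers z, mem_zpowers z, S, _, hT, hT.cj_of_mem (mem_top g),
      fun e => hne (mem_Z.1 (hc ▸ h.mem_of_cj hT e)), zpowers_le.2 hz, zpowers_le.2 h1⟩
  refine ⟨T1, X, s1, l1, fun Y hY T3 T4 s3 s4 l3 l4 => ?_, ⟨T2, s2, l2, hne'⟩,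
    hT.pgrp.to_le fun x hx => hc ▸ mem_centralizer_singleton_iff.2 (hx z zX).symm⟩
  by_contra e
  exact hY.not_ge (hmax ⟨hY.le zX, T4, T3, s4, s3, e, l4, l3⟩ hY.le)

variable (c : Cr T X)
include c

omit h in
theorem _root_.Cfsg.Agent.Len.Cr.lt_nor {T2 : Subgroup G} (s2 : IsSyl 2 T2 ⊤) (l2 : X ≤ T2) :
    X < T2 ⊓ 𝐍[X] := by
  refine lt_inf_normalizer s2.pgrp (lt_of_le_of_ne l2 fun e => ?_)
  obtain ⟨T3, s3, l3, hne⟩ := c.two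
  subst e
  exact hne ((s2.eq s3.pgrp l3 le_top).trans (s2.eq c.syl.pgrp c.XT le_top).symm)

theorem uq {Y : Subgroup G} (h1 : X < Y) (h2 : Y ≤ T) {g : G} (hg : cj(g, Y) ≤ T) : g ∈ T :=
  inv_mem_iff.1 (h.mem_of_cj c.syl
    (c.un Y h1 _ _ (c.syl.cj_of_mem (mem_top _)) c.syl (cj_le_iff.1 hg) h2))

theorem le_X {Y : Subgroup G} (hY : IsPGroup 2 Y) (h1 : X ≤ Y) (h2 : 𝐍[X] ≤ 𝐍[Y]) : Y ≤ X := by
  by_contra hn
  have hlt : X < Y := lt_of_le_not_ge h1 hn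
  obtain ⟨T3, s3, l3⟩ := exists_isSyl_ge hY le_top
  have h3 : 𝐍[X] ≤ T3 := fun g hg => h.mem_of_cj s3 (c.un Y hlt _ _ (s3.cj_of_mem (mem_top g)) s3
    (by rw [← cj_of_mem_normalizer (h2 hg)]; exact cj_mono g l3) l3)
  have key : ∀ T2, IsSyl 2 T2 ⊤ → X ≤ T2 → T2 = T3 := fun T2 s2 l2 =>
    c.un _ (c.lt_nor s2 l2) _ _ s2 s3 inf_le_left (inf_le_right.trans h3)
  obtain ⟨T2, s2, l2, hne⟩ := c.two
  exact hne ((key T2 s2 l2).trans (key T c.syl c.XT).symm)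

theorem CX : 𝐂[X] ≤ X :=
  le_sup_right.trans (h.le_X c (Y := X ⊔ 𝐂[X]) (isPGroup_sup (c.syl.pgrp.to_le c.XT) c.cp
    (le_normalizer_centralizer le_normalizer)) le_sup_left
    (le_normalizer_sup le_rfl (normalizer_le_normalizer_centralizer X)))

theorem ti {g y : G} (hg : g ∈ 𝐍[X]) (yT : y ∈ T) (yX : y ∉ X) (e : g * y * g⁻¹ ∈ T) : g ∈ T :=
  h.uq c (Y := X ⊔ zpowers y)
    (lt_of_le_of_ne le_sup_left fun e' => yX (e' ▸ mem_sup_right (mem_zpowers y)))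
    (sup_le c.XT (zpowers_le.2 yT)) (by
      rw [cj_sup, cj_of_mem_normalizer hg, MonoidHom.map_zpowers]
      exact sup_le c.XT (zpowers_le.2 e))

theorem exists_n : ∃ n ∈ 𝐍[X], n ∉ T := by
  by_contra hn
  push Not at hn
  exact (c.lt_nor c.syl c.XT).not_ge (inf_le_right.trans
    (h.le_X c (c.syl.pgrp.to_le hn) le_normalizer le_normalizer))

theorem mem_Om {z : G} (zz : z * z = 1) (hz : 𝐙[z] = T) : z ∈ Om X :=
  have : z ∈ 𝐂[X] := fun _ hx => mem_centralizer_singleton_iff.1 (hz ▸ c.XT hx)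
  ⟨h.CX c this, this, zz⟩

theorem X_ne : X ≠ ⊥ := fun e => by
  obtain ⟨z, -, z1, zz, hz⟩ := h.exists_z c.syl
  exact z1 (mem_bot.1 (e ▸ (h.mem_Om c zz hz).1))

theorem P_lt : T ⊓ 𝐍[X] < T := lt_of_le_of_ne inf_le_left fun e => by
  obtain ⟨n, hn, h1⟩ := h.exists_n c
  exact h1 (h.nor_eq c.syl (h.X_ne c) c.XT (inf_eq_left.1 e) ▸ hn)

omit h in
theorem _root_.Cfsg.Agent.Len.Cr.sylP : IsSyl 2 (T ⊓ 𝐍[X]) 𝐍[X] :=
  ⟨inf_le_right, c.syl.pgrp.to_le inf_le_left, fun R hR h1 h2 => by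
    obtain ⟨T3, s3, l3⟩ := exists_isSyl_ge hR le_top
    rw [c.un _ (c.lt_nor c.syl c.XT) _ _ s3 c.syl (h1.trans l3) inf_le_left] at l3
    exact le_inf l3 h2⟩

/-- `N_T(X)/X` has a unique involution -/
theorem uniq_inv {x y : G} (hx : x ∈ T ⊓ 𝐍[X]) (hy : y ∈ T ⊓ 𝐍[X]) (x1 : x ∉ X) (y1 : y ∉ X)
    (xx : x * x ∈ X) (yy : y * y ∈ X) : x * y ∈ X := by
  let π := QuotientGroup.mk' (X.subgroupOf 𝐍[X])
  have sj : Function.Surjective π := QuotientGroup.mk'_surjective _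
  have hπ : ∀ x : 𝐍[X], π x = 1 ↔ (x : G) ∈ X := fun x => QuotientGroup.eq_one_iff x
  have hT : ∀ x y : 𝐍[X], π x = π y → (y : G) ∈ T → (x : G) ∈ T := fun x y e hy => by
    have : ((x * y⁻¹ : 𝐍[X]) : G) ∈ X := (hπ _).1 (by rw [map_mul, map_inv, e, mul_inv_cancel])
    exact (mul_mem_cancel_right (inv_mem hy)).1 (c.XT this)
  have hP : IsPGroup 2 ((T.subgroupOf 𝐍[X]).map π) := (isPGroup_subgroupOf c.syl.pgrp _).map π
  obtain ⟨_, ⟨⟨u, uT, rfl⟩, hu⟩, u1, uu⟩ := exists_sq_mem' (S := ⊥)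
    (hP.to_le (inf_le_left (b := 𝐂[(T.subgroupOf 𝐍[X]).map π]))) fun e =>
      inf_centralizer_ne_bot hP hP le_normalizer (fun e' => x1 ((hπ ⟨x, hx.2⟩).1
        (mem_bot.1 (e' ▸ mem_map_of_mem π (show _ ∈ T.subgroupOf 𝐍[X] from hx.1)))))
        (le_bot_iff.1 e)
  rw [mem_bot] at u1 uu
  have uX : (u : G) ∉ X := fun e => u1 ((hπ u).2 e)
  obtain ⟨n, hn, nT⟩ := h.exists_n c
  have key : ∀ y : 𝐍[X], (y : G) ∈ T → (y : G) ∉ X → (y : G) * y ∈ X → π y = π u := by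
    intro y yT y1 yy
    rcases inv_pair (a := π ⟨n, hn⟩ * π u * (π ⟨n, hn⟩)⁻¹) (b := π y)
      (by rw [conj_mul, uu, mul_one, mul_inv_cancel]) (by rw [← map_mul, hπ]; exact yy) with
      ⟨g, e⟩ | ⟨g, g1, e1, e2⟩
    · obtain ⟨g, rfl⟩ := sj g
      have e' : π (g * ⟨n, hn⟩) * π u * (π (g * ⟨n, hn⟩))⁻¹ = π y := by
        rw [← e, map_mul]; group
      have h1 := h.ti c (g * ⟨n, hn⟩).2 uT uX (hT (g * ⟨n, hn⟩ * u * (g * ⟨n, hn⟩)⁻¹) y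
        (by rw [map_mul, map_mul π _ u, map_inv, e']) yT)
      rw [← e', hu _ (mem_map_of_mem π (show _ ∈ T.subgroupOf 𝐍[X] from h1)), mul_inv_cancel_right]
    · exfalso
      obtain ⟨g, rfl⟩ := sj g
      have h1 := h.ti c g.2 yT y1 (hT (g * y * g⁻¹) y (by rw [map_mul, map_mul, map_inv, e2]) yT)
      have h2 := h.ti c ((⟨n, hn⟩ : 𝐍[X])⁻¹ * g * ⟨n, hn⟩).2 uT uX
        (hT (_ * u * ((⟨n, hn⟩ : 𝐍[X])⁻¹ * g * ⟨n, hn⟩)⁻¹) u (by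
          simp only [map_mul, map_inv]
          calc _ = (π ⟨n, hn⟩)⁻¹ * (π g * (π ⟨n, hn⟩ * π u * (π ⟨n, hn⟩)⁻¹) * (π g)⁻¹) *
                π ⟨n, hn⟩ := by group
            _ = _ := by rw [e1]; group) uT)
      exact nT (inv_mem_iff.1 (h.ti c (inv_mem hn) h1 (fun e => g1 ((hπ g).2 e))
        (by simpa using h2)))
  exact (hπ (⟨x, hx.2⟩ * ⟨y, hy.2⟩)).1 (by
    rw [map_mul, key ⟨x, hx.2⟩ hx.1 x1 xx, key ⟨y, hy.2⟩ hy.1 y1 yy, uu])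

theorem exists_r : ∃ r ∈ T, r ∈ 𝐍[T ⊓ 𝐍[X]] ∧ r ∉ 𝐍[X] ∧ r * r ∈ T ⊓ 𝐍[X] := by
  obtain ⟨r, hr, h1, h2⟩ := exists_sq_mem' (c.syl.pgrp.to_le inf_le_left)
    (lt_inf_normalizer c.syl.pgrp (h.P_lt c)).not_ge
  exact ⟨r, hr.1, hr.2, fun e => h1 ⟨hr.1, e⟩, h2⟩

theorem exists_tv : ∃ s ∈ T ⊓ 𝐍[X], s ∉ X ∧ s * s ∈ X ∧ Tv (Om X) s := by
  by_cases h8 : Nat.card (Om X) ≤ 8
  · obtain ⟨s, hs, h1, h2⟩ := exists_sq_mem' (c.syl.pgrp.to_le inf_le_left)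
      (c.lt_nor c.syl c.XT).not_ge
    exact ⟨s, hs, h1, h2, tv_of_card hs.2 h2 h8⟩
  obtain ⟨r, rT, rP, rN, rr⟩ := h.exists_r c
  have XP : X ≤ T ⊓ 𝐍[X] := (c.lt_nor c.syl c.XT).le
  have VX : Om X ≤ X := fun _ hv => hv.1
  by_cases hV : cj(r, Om X) ≤ X
  · exfalso
    have e : cj(r⁻¹, X) = cj(r, X) := by
      rw [← cj_inj (g := r), cj_cj_inv, ← cj_mul, cj_of_mem_normalizer rr.2]
    have h1 : X ⊓ cj(r, X) < X := lt_of_le_of_ne inf_le_left fun e' =>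
      rN (cj_eq_iff.1 (eq_of_le_of_card_ge (inf_eq_left.1 e') (card_cj r X).le).symm)
    have h2 := (((Ch.one h1).step (c.lt_nor c.syl c.XT)).step (h.P_lt c))
    have key : ∀ V, V ≤ X ⊓ cj(r, X) → ¬ Nat.card V ≤ 8 → V = X ⊓ cj(r, X) := fun V h3 h4 => by
      by_contra hne
      have := ((Ch.one (lt_of_le_of_ne h3 hne)).trans h2).card_le
      rw [h.card T c.syl] at this
      omega
    have h3 : cj(r, Om X) = Om X := (key _ (le_inf hV (cj_mono r VX)) (by rwa [card_cj])).trans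
      (key _ (le_inf VX (e ▸ cj_le_iff.1 hV)) h8).symm
    obtain ⟨z, -, -, zz, hz⟩ := h.exists_z c.syl
    have h4 : 𝐍[X] ⊓ 𝐂[Om X] ≤ T := fun g hg =>
      hz ▸ mem_centralizer_singleton_iff.2 (hg.2 z (h.mem_Om c zz hz)).symm
    have h5 : X ≤ 𝐍[X] ⊓ 𝐂[Om X] := le_inf le_normalizer fun x hx v hv => (Om.comm hv hx).symm
    have h6 := h.le_X c (c.syl.pgrp.to_le h4) h5 (le_normalizer_inf le_normalizer
      (le_normalizer_centralizer (le_normalizer_iff.2 fun g hg v hv => Om.conj hv hg)))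
    refine rN (mem_normalizer_of_cj_le ((le_inf ?_ ?_).trans h6))
    · exact (cj_le_of_mem_normalizer XP rP).trans inf_le_right
    · rw [← h3, centralizer_cj]
      exact cj_mono r (h5.trans inf_le_right)
  obtain ⟨_, ⟨v, hv, rfl⟩, h1⟩ := SetLike.not_le_iff_exists.1 hV
  change r * v * r⁻¹ ∉ X at h1
  change ∃ s ∈ _, _
  have vv : r * v * r⁻¹ * (r * v * r⁻¹) = 1 := by rw [conj_mul, hv.2.2, mul_one, mul_inv_cancel]
  have key : ∀ x, r⁻¹ * x * r ∈ X → r * v * r⁻¹ * x * (r * v * r⁻¹)⁻¹ = x := fun x hx => by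
    calc _ = r * (v * (r⁻¹ * x * r)) * v⁻¹ * r⁻¹ := by group
      _ = _ := by rw [← Om.comm hv hx]; group
  refine ⟨_, conj_mem_of_mem_normalizer rP (XP hv.1), h1, vv ▸ one_mem X, fun x hx y hy h2 h3 =>
    key _ ?_⟩
  have e : ∀ x ∈ Om X, r⁻¹ * x * r * (r⁻¹ * x * r) ∈ X := fun x hx => by
    rw [show r⁻¹ * x * r * (r⁻¹ * x * r) = r⁻¹ * (x * x) * r by group, hx.2.2]
    simp
  rw [show r⁻¹ * (x * y) * r = r⁻¹ * x * r * (r⁻¹ * y * r) by group]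
  exact h.uniq_inv c (inv_conj_mem_of_mem_normalizer rP (XP hx.1))
    (inv_conj_mem_of_mem_normalizer rP (XP hy.1)) (fun e => h2 (key _ e)) (fun e => h3 (key _ e))
    (e x hx) (e y hy)

end Hy

end Cfsg.Agent.Len
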