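import Cfsg.Agent.Len.N3

/-! The structure of a maximal Sylow intersection. -/

set_option autoImplicit false

namespace Cfsg.Agent.Len

open Subgroup Cfsg.Agent.PLocal.Amb

variable {G : Type*} [Group G]

theorem mem_zp {a x : G} (aa : a * a = 1) (h : x ∈ zpowers a) : x = 1 ∨ x = a := by
  rw [← bot_sup_eq (zpowers a), mem_ext (by rw [normalizer_eq_top]; trivial) (by simp [aa]), mem_bot, mem_bot] at h
  exact h.imp_right fun e => by rw [eq_inv_of_mul_eq_one_right e, inv_eq_of_mul_eq_one_right aa]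

variable [Finite G] {T X : Subgroup G}

theorem ab_of_card (hX : Nat.card X ≤ 16) {a d : G} (ha : a ∈ Om X) (hd : d ∈ Om X) (a1 : a ≠ 1)
    (d1 : d ≠ 1) (ad : d ≠ a) (mv : ∀ c, c = a ∨ c = d ∨ c = d * a → ∃ n ∈ 𝐍[X], n * c * n⁻¹ ≠ c) :
    ∀ x ∈ X, ∀ y ∈ X, x * y = y * x := by
  intro y hy y' hy'
  by_contra hne
  have hU : zpowers a ⊔ zpowers d ≤ X ⊓ 𝐂[X] :=
    sup_le (zpowers_le.2 ⟨ha.1, ha.2.1⟩) (zpowers_le.2 ⟨hd.1, hd.2.1⟩)
  have dN : d ∈ 𝐍[zpowers a] := mem_normalizer_zpowers (by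
    rw [Om.comm ha hd.1, mul_inv_cancel_right]; exact mem_zpowers a)
  have cU := card_two le_sup_left (relIndex_ext dN (hd.2.2 ▸ one_mem _) fun e =>
    (mem_zp ha.2.2 e).elim d1 ad)
  rw [Nat.card_zpowers, orderOf_eq_prime (p := 2) (by rw [sq, ha.2.2]) a1] at cU
  have cZ := card_le_of_le hU
  have key : ∀ g ∈ X, ∀ g' ∈ X, g * g' ≠ g' * g → Nat.card ↥(X ⊓ 𝐂[X]) = 4 ∧ Nat.card X = 16 ∧
      (X ⊓ 𝐂[X]).relIndex (X ⊓ 𝐙[g]) = 2 ∧ (X ⊓ 𝐙[g]).relIndex X = 2 := fun g hg g' hg' e => by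
    have h1 : X ⊓ 𝐂[X] < X ⊓ 𝐙[g] := lt_of_le_of_ne
      (inf_le_inf_left _ fun x hx => mem_centralizer_singleton_iff.2 (hx g hg).symm) fun e' => by
        have : g ∈ X ⊓ 𝐂[X] := e' ▸ ⟨hg, mem_centralizer_singleton_iff.2 rfl⟩
        exact e (this.2 g' hg').symm
    have h2 : X ⊓ 𝐙[g] < X := lt_of_le_of_ne inf_le_left fun e' =>
      e (mem_centralizer_singleton_iff.1 (inf_eq_left.1 e' hg')).symm
    have h3 := (Ch.one h1).card_le
    have h4 := (Ch.one h2).card_le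
    have h5 := Grp.card_mul_relIndex_of_le h1.le
    have h6 := Grp.card_mul_relIndex_of_le h2.le
    have h7 : Nat.card ↥(X ⊓ 𝐂[X]) = 4 := by omega
    have h8 : Nat.card ↥(X ⊓ 𝐙[g]) = 8 := by omega
    rw [h7, h8] at h5
    rw [h8] at h6
    omega
  obtain ⟨c4, c16, i1, -⟩ := key y hy y' hy' hne
  have i4 : (X ⊓ 𝐂[X]).relIndex X ∣ 4 := by
    have := Grp.card_mul_relIndex_of_le (inf_le_left : X ⊓ 𝐂[X] ≤ X)
    rw [c4, c16] at this
    exact dvd_of_eq (by omega)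
  have cm : ∀ g ∈ X, ∀ g' ∈ X, g * g' * g⁻¹ * g'⁻¹ ∈ X ⊓ 𝐂[X] := fun g hg g' hg' =>
    comm_mem_of_relIndex (le_normalizer_inf le_normalizer (le_normalizer_centralizer le_normalizer))
      i4 hg hg'
  have F1 : ∀ g ∈ X, ∀ u ∈ X, ∀ v ∈ X, g * u ≠ u * g → g * v ≠ v * g →
      g * u * g⁻¹ * u⁻¹ = g * v * g⁻¹ * v⁻¹ := fun g hg u hu v hv h1 h2 => by
    have h3 := mul_mem_two (key g hg u hu h1).2.2.2 hu (inv_mem hv)
      (fun e => h1 (mem_centralizer_singleton_iff.1 e.2).symm) fun e => h2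
        (mem_centralizer_singleton_iff.1 (inv_mem_iff.1 (show v⁻¹ ∈ 𝐙[g] from e.2))).symm
    have h4 := mem_centralizer_singleton_iff.1 h3.2
    have h5 := (cm g hg v hv).2 _ h3.1
    calc g * u * g⁻¹ * u⁻¹ = g * (u * v⁻¹) * (v * g⁻¹ * v⁻¹) * (u * v⁻¹)⁻¹ := by group
      _ = u * v⁻¹ * (g * v * g⁻¹ * v⁻¹) * (u * v⁻¹)⁻¹ := by rw [← h4]; group
      _ = _ := by rw [h5, mul_inv_cancel_right]
  have hc := cm y hy y' hy'
  have ne1 : ∀ {u v : G}, u * v ≠ v * u ↔ u * v * u⁻¹ * v⁻¹ ≠ 1 := by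
    intro u v
    rw [Ne, Ne, mul_inv_eq_one, mul_inv_eq_iff_eq_mul]
  set c := y * y' * y⁻¹ * y'⁻¹ with hc'
  have cc : c ∈ Om X := (sup_le (zpowers_le.2 ha) (zpowers_le.2 hd) : _ ≤ Om X)
    (eq_of_le_of_card_ge hU (by omega) ▸ hc)
  obtain ⟨n, hn, mv'⟩ := mv c (by
    rw [← eq_of_le_of_card_ge hU (by omega), mem_ext dN (hd.2.2 ▸ one_mem _)] at hc
    have di := inv_eq_of_mul_eq_one_right hd.2.2
    rcases hc with e | e
    · exact Or.inl ((mem_zp ha.2.2 e).resolve_left (ne1.1 hne))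
    · exact Or.inr ((mem_zp ha.2.2 e).imp (fun e => by rw [eq_inv_of_mul_eq_one_right e, di])
        fun e => by rw [eq_inv_mul_of_mul_eq e, di]))
  have h2 := conj_mem_of_mem_normalizer hn hy
  have h2' := conj_mem_of_mem_normalizer hn hy'
  have e2 : n * y * n⁻¹ * (n * y' * n⁻¹) * (n * y * n⁻¹)⁻¹ * (n * y' * n⁻¹)⁻¹ = n * c * n⁻¹ := by
    rw [hc']; group
  have n2 : n * y * n⁻¹ * (n * y' * n⁻¹) ≠ n * y' * n⁻¹ * (n * y * n⁻¹) := by
    rw [ne1, e2]; simpa using ne1.1 hne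
  generalize n * y * n⁻¹ = u at *
  generalize n * y' * n⁻¹ = u' at *
  refine mv' ?_
  by_cases h3 : y * u = u * y
  · have h4 := (mul_mem_two i1 ⟨h2, mem_centralizer_singleton_iff.2 h3.symm⟩
      (inv_mem ⟨hy, mem_centralizer_singleton_iff.2 rfl⟩) (fun e => n2 (e.2 u' h2').symm)
      fun e => hne ((inv_mem_iff.1 e).2 y' hy').symm).2
    have h5 : u * u' * u⁻¹ * u'⁻¹ = y * u' * y⁻¹ * u'⁻¹ := by
      have := h4 _ (mul_mem (mul_mem hy h2') (inv_mem hy))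
      calc u * u' * u⁻¹ * u'⁻¹ = u * y⁻¹ * (y * u' * y⁻¹) * (u * y⁻¹)⁻¹ * u'⁻¹ := by group
        _ = _ := by rw [← this]; group
    rw [← e2, h5]
    exact F1 y hy u' h2' y' hy' (by rw [ne1, ← h5]; exact ne1.1 n2) hne
  · rw [← e2, F1 u h2 u' h2' y hy n2 (Ne.symm h3), ← inv_eq_of_mul_eq_one_right cc.2.2, hc',
      F1 y hy y' hy' u h2 hne h3]
    group

/-- the three conjugates of a central involution -/
structure Tri (T X : Subgroup G) (z n s : G) : Prop where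
  hy : Hy G
  cr : Cr T X
  z1 : z ≠ 1
  zz : z * z = 1
  hz : 𝐙[z] = T
  nN : n ∈ 𝐍[X]
  nT : n ∉ T
  sP : s ∈ T ⊓ 𝐍[X]
  sX : s ∉ X
  ss : s * s ∈ X
  tv : Tv (Om X) s

namespace Tri

variable {z n s : G} (t : Tri T X z n s)
include t

theorem mem {g : G} (hg : g ∈ 𝐍[X]) : g * z * g⁻¹ ∈ Om X :=
  Om.conj (t.hy.mem_Om t.cr t.zz t.hz) hg

omit [Finite G] in
theorem fixT {g : G} : g * z * g⁻¹ = z ↔ g ∈ T := by rw [← t.hz, mem_Z]

theorem fix {g y : G} (hg : g ∈ 𝐍[X]) (yT : y ∈ T) (yX : y ∉ X)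
    (e : y * (g * z * g⁻¹) * y⁻¹ = g * z * g⁻¹) : g ∈ T :=
  inv_mem_iff.1 (t.hy.ti t.cr (inv_mem hg) yT yX (t.fixT.1 (by
    calc _ = g⁻¹ * (y * (g * z * g⁻¹) * y⁻¹) * g := by group
      _ = _ := by rw [e]; group)))

theorem fix' {g : G} (hg : g ∈ 𝐍[X])
    (e : n * s * n⁻¹ * (g * z * g⁻¹) * (n * s * n⁻¹)⁻¹ = g * z * g⁻¹) :
    g * z * g⁻¹ = n * z * n⁻¹ := by
  have := t.fixT.2 (t.fix (mul_mem (inv_mem t.nN) hg) t.sP.1 t.sX (by
    calc _ = n⁻¹ * (n * s * n⁻¹ * (g * z * g⁻¹) * (n * s * n⁻¹)⁻¹) * n := by group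
      _ = _ := by rw [e]; group))
  conv_rhs => rw [← this]
  group

theorem ne' : s * (n * z * n⁻¹) * s⁻¹ ≠ n * z * n⁻¹ := fun e => t.nT (t.fix t.nN t.sP.1 t.sX e)

omit [Finite G] in
theorem back {v : G} (hv : v ∈ Om X) : s * (s * v * s⁻¹) * s⁻¹ = v := by
  rw [show s * (s * v * s⁻¹) * s⁻¹ = s * s * v * (s * s)⁻¹ by group, Om.comm hv t.ss,
    mul_inv_cancel_right]

theorem orb {g : G} (hg : g ∈ 𝐍[X]) : g * z * g⁻¹ = z ∨ g * z * g⁻¹ = n * z * n⁻¹ ∨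
    g * z * g⁻¹ = s * (n * z * n⁻¹) * s⁻¹ := by
  by_contra hn
  push Not at hn
  obtain ⟨h1, h2, h3⟩ := hn
  have m1 := t.mem hg
  have m2 := t.mem t.nN
  have m3 := Om.conj m1 t.sP.2
  have m4 := Om.conj m2 t.sP.2
  have e1 := t.tv _ m2 _ m1 t.ne' fun e => h1 (t.fixT.2 (t.fix hg t.sP.1 t.sX e))
  have e2 := (t.tv.conj fun v hv => Om.conj hv (inv_mem t.nN)) _ m1 _ m3
    (fun e => h2 (t.fix' hg e)) fun e => h3 (by
      have := t.fix' (mul_mem t.sP.2 hg) (by simpa only [mul_assoc, mul_inv_rev] using e)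
      rw [← this, ← t.back m1]; group)
  have e3 : n * s * n⁻¹ * (n * z * n⁻¹) * (n * s * n⁻¹)⁻¹ = n * z * n⁻¹ := by
    conv_rhs => rw [← t.fixT.2 t.sP.1]
    group
  refine t.ne' ((show _ = s * n * z * (s * n)⁻¹ by group).trans (t.fix' (mul_mem t.sP.2 t.nN) ?_))
  rw [show s * n * z * (s * n)⁻¹ = s * (n * z * n⁻¹) * s⁻¹ by group]
  rw [← conj_mul] at e1 e2
  generalize g * z * g⁻¹ = y at *
  generalize n * z * n⁻¹ = z' at *
  generalize s * y * s⁻¹ = y' at *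
  generalize s * z' * s⁻¹ = z'' at *
  have e4 : y * y' = z' * z'' := by
    rw [eq_inv_mul_of_mul_eq e1, inv_eq_of_mul_eq_one_right m4.2.2, ← mul_assoc z'',
      Om.comm m1 (mul_mem m4.1 m2.1), ← mul_assoc, m1.2.2, one_mul, Om.comm m2 m4.1]
  rw [conj_mul, e4, ← conj_mul, e3, mul_left_cancel_iff] at e2
  exact e2

omit [Finite G] in
theorem ne1 : n * z * n⁻¹ ≠ z := fun e => t.nT (t.fixT.1 e)

omit [Finite G] in
theorem ne2 : s * (n * z * n⁻¹) * s⁻¹ ≠ z := fun e => t.nT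
  ((mul_mem_cancel_left (mem_inf.1 t.sP).1).1 (t.fixT.1 (Eq.trans (by group) e)))

theorem two {p : G} (hp : p ∈ T ⊓ 𝐍[X]) : p ∈ X ∨ s * p ∈ X := by
  have key : ∀ p ∈ T, p * (n * z * n⁻¹) * p⁻¹ = n * z * n⁻¹ → p ∈ X := fun p hp e => by
    by_contra hn
    exact t.nT (t.fix t.nN hp hn e)
  rcases t.orb (mul_mem hp.2 t.nN) with e | e | e
  · exact absurd ((mul_mem_cancel_left (mem_inf.1 hp).1).1 (t.fixT.1 e)) t.nT
  · exact Or.inl (key p hp.1 (by rw [← e]; nth_rewrite 1 [e]; group))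
  · refine Or.inr (key _ (mul_mem t.sP.1 hp.1) ?_)
    rw [← t.back (t.mem t.nN), ← e]
    nth_rewrite 1 [e]
    rw [t.back (t.mem t.nN)]
    group

theorem idx2 : X.relIndex (T ⊓ 𝐍[X]) = 2 := relIndex_two t.sP t.sX fun _ => t.two

theorem idx3 : (T ⊓ 𝐍[X]).relIndex 𝐍[X] = 3 := by
  have h1 := Grp.FourOdd.ncard_conj 𝐍[X] z
  have h2 := Grp.card_mul_relIndex_of_le (inf_le_right : T ⊓ 𝐍[X] ≤ 𝐍[X])
  rw [show {t | ∃ k ∈ 𝐍[X], k * z * k⁻¹ = t} = {z, n * z * n⁻¹, s * (n * z * n⁻¹) * s⁻¹} from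
    Set.ext fun y => ⟨fun ⟨k, hk, e⟩ => e ▸ t.orb hk, by
      rintro (e | e | e)
      · exact ⟨1, one_mem _, by simp [e]⟩
      · exact ⟨n, t.nN, e.symm⟩
      · exact ⟨s * n, mul_mem t.sP.2 t.nN, by rw [e]; group⟩⟩,
    Set.ncard_eq_three.2 ⟨_, _, _, t.ne1.symm, t.ne2.symm, t.ne'.symm, rfl⟩, t.hz, inf_comm,
    ← h2, mul_comm] at h1
  exact (Nat.eq_of_mul_eq_mul_left Nat.card_pos h1).symm

/-- Sims' theorem bounds the order -/
theorem card_X : Nat.card X ≤ 16 := by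
  have := t.hy.simple
  have h1 := card_two (t.cr.lt_nor t.cr.syl t.cr.XT).le t.idx2
  have h2 := Grp.card_mul_relIndex_of_le (inf_le_right : T ⊓ 𝐍[X] ≤ 𝐍[X])
  have h3 := (Ch.one (t.hy.P_lt t.cr)).card_le
  rw [t.hy.card T t.cr.syl] at h3
  rw [t.idx3] at h2
  by_contra hc
  obtain ⟨k, hk⟩ := (t.cr.sylP.pgrp).exists_card_eq
  have h4 : Nat.card ↥(T ⊓ 𝐍[X]) = 2 ^ 6 := by
    have : 2 ^ 5 < 2 ^ k := by omega
    have : 2 ^ k < 2 ^ 7 := by omega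
    rw [Nat.pow_lt_pow_iff_right one_lt_two] at *
    rw [hk, show k = 6 by omega]
  have h5 : Ch ⊥ 𝐍[X] 7 := (ch_two h4.symm.dvd).step (lt_of_le_of_ne inf_le_right fun e => by
    rw [e] at h4 h2; omega)
  have key : ∀ M, 𝐍[X] ≤ M → M ≠ ⊤ → M = 𝐍[X] := fun M h6 h7 => by
    by_contra e
    exact t.hy.h9 ((h5.step (lt_of_le_of_ne h6 (Ne.symm e))).top h7)
  have XT := t.hy.ne_top (t.cr.syl.pgrp.to_le t.cr.XT)
  obtain ⟨r, rT, rP, rN, rr⟩ := t.hy.exists_r t.cr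
  have := Sub3.cases_aux t.cr.sylP t.idx3 (cj_of_mem_normalizer rP) fun Y h6 h7 h8 => by
    by_contra hY
    rw [key _ h7 (normalizer_ne_top hY (t.hy.ne_top (t.cr.sylP.pgrp.to_le h6)))] at h8
    exact rN (key _ le_normalizer (normalizer_ne_top
      (fun e => t.hy.X_ne t.cr (le_bot_iff.1 (e ▸ le_normalizer)))
      (normalizer_ne_top (t.hy.X_ne t.cr) XT)) ▸ mem_normalizer_of_cj_le h8)
  rw [h4] at h2
  rcases this with ⟨⟨e⟩⟩ | ⟨⟨e⟩⟩ | ⟨⟨e⟩⟩ | ⟨⟨e⟩⟩ | ⟨⟨e⟩⟩ <;>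
  · have := Nat.card_congr e.toEquiv
    simp [← h2, Fintype.card_perm, DihedralGroup.card, Nat.factorial] at this

theorem swap : n * s * n⁻¹ * z * (n * s * n⁻¹)⁻¹ = s * (n * z * n⁻¹) * s⁻¹ ∧
    n * s * n⁻¹ * (n * z * n⁻¹) * (n * s * n⁻¹)⁻¹ = n * z * n⁻¹ ∧
    n * s * n⁻¹ * (s * (n * z * n⁻¹) * s⁻¹) * (n * s * n⁻¹)⁻¹ = z := by
  have e3 : n * s * n⁻¹ * (n * z * n⁻¹) * (n * s * n⁻¹)⁻¹ = n * z * n⁻¹ := by
    conv_rhs => rw [← t.fixT.2 t.sP.1]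
    group
  have hN := mul_mem (mul_mem t.nN t.sP.2) (inv_mem t.nN)
  have e1 : n * s * n⁻¹ * z * (n * s * n⁻¹)⁻¹ = s * (n * z * n⁻¹) * s⁻¹ := by
    rcases t.orb hN with e | e | e
    · exact absurd (t.fix' (one_mem _) (by simpa using e)) (by simpa using t.ne1.symm)
    · rw [← e3, mul_right_cancel_iff, mul_left_cancel_iff] at e
      exact absurd e t.ne1.symm
    · exact e
  refine ⟨e1, e3, ?_⟩
  have := t.back (Om.conj (t.hy.mem_Om t.cr t.zz t.hz) (inv_mem t.nN))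
  rw [← e1]
  calc _ = n * (s * (s * (n⁻¹ * z * n⁻¹⁻¹) * s⁻¹) * s⁻¹) * n⁻¹ := by group
    _ = _ := by rw [this]; group

theorem ab : ∀ x ∈ X, ∀ y ∈ X, x * y = y * x := by
  have m0 := t.hy.mem_Om t.cr t.zz t.hz
  have m1 := t.mem t.nN
  have m2 := Om.conj m1 t.sP.2
  obtain ⟨e1, e2, e3⟩ := t.swap
  have e4 := t.fixT.2 t.sP.1
  have e5 := t.back m1
  have n1 := t.ne1
  have n2 := t.ne2
  have n3 := t.ne'
  generalize hz' : n * z * n⁻¹ = z' at *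
  generalize hz'' : s * z' * s⁻¹ = z'' at *
  refine ab_of_card t.card_X (mul_mem m0 m1) (mul_mem m1 m2) (fun e => n1 ?_) (fun e => n3 ?_)
    (fun e => n2 ?_) ?_
  · rw [eq_inv_of_mul_eq_one_right e, inv_eq_of_mul_eq_one_right t.zz]
  · rw [eq_inv_of_mul_eq_one_right e, inv_eq_of_mul_eq_one_right m1.2.2]
  · rwa [Om.comm m1 m0.1, mul_left_cancel_iff] at e
  · rintro _ (rfl | rfl | rfl)
    · exact ⟨s, t.sP.2, fun e => n3 (by rwa [← conj_mul, e4, hz'', mul_left_cancel_iff] at e)⟩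
    · exact ⟨_, mul_mem (mul_mem t.nN t.sP.2) (inv_mem t.nN), fun e => n2 (by
        rw [← conj_mul, e2, e3, mul_left_cancel_iff] at e; exact e.symm)⟩
    · refine ⟨s, t.sP.2, fun e => n3 ?_⟩
      rwa [← conj_mul, ← conj_mul, ← conj_mul, e4, e5, hz'', Om.comm m1 m2.1, mul_left_cancel_iff,
        mul_left_cancel_iff] at e

end Tri

/-- the data for the tower -/
theorem Hy.exists_loc (h : Hy G) : ∃ (T X B : Subgroup G) (a d s r σ : G), IsSyl 2 T ⊤ ∧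
    Loc T X B a d s ∧ Tw T B a s r σ ∧ Nat.card X ≤ 16 ∧ (∀ β ∈ B, T ≤ 𝐙[β] → β = 1) ∧
    ∀ g, cj(g, X ⊔ zpowers s) ≤ T → g ∈ T := by
  obtain ⟨T, X, c⟩ := h.exists_cr
  obtain ⟨z, -, z1, zz, hz⟩ := h.exists_z c.syl
  obtain ⟨n, nN, nT⟩ := h.exists_n c
  obtain ⟨s0, sP0, sX0, ss0, tv0⟩ := h.exists_tv c
  have t0 : Tri T X z n s0 := ⟨h, c, z1, zz, hz, nN, nT, sP0, sX0, ss0, tv0⟩
  obtain ⟨r, rT, rP, rN, rr⟩ := h.exists_r c
  have XP : X ≤ T ⊓ 𝐍[X] := (c.lt_nor c.syl c.XT).le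
  have ab := t0.ab
  have m0 := h.mem_Om c zz hz
  have m1 := t0.mem nN
  have ma := mul_mem m0 m1
  obtain ⟨a, ha⟩ : ∃ a, a = z * (n * z * n⁻¹) := ⟨_, rfl⟩
  obtain ⟨s, hs⟩ : ∃ s, s = r * a * r⁻¹ := ⟨_, rfl⟩
  rw [← ha] at ma
  have ss : s * s = 1 := by rw [hs, conj_mul, ma.2.2, mul_one, mul_inv_cancel]
  have sP : s ∈ T ⊓ 𝐍[X] := hs ▸ conj_mem_of_mem_normalizer rP (XP ma.1)
  have k1 : ∀ x, r⁻¹ * x * r ∈ X → s * x * s⁻¹ = x := fun x hx => by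
    calc _ = r * (a * (r⁻¹ * x * r)) * a⁻¹ * r⁻¹ := by rw [hs]; group
      _ = _ := by rw [ab a ma.1 _ hx]; group
  have sX : s ∉ X := fun e => rN (inv_mem_iff.1 (mem_normalizer_of_cj_le
    (cj_le_iff_forall.2 fun x hx => by
      by_contra hn
      have h1 := (conj_mem_of_mem_normalizer (inv_mem rP) (XP hx)).1
      refine nT (t0.fix nN h1 hn ?_)
      have h2 : r⁻¹ * x * r⁻¹⁻¹ * a * (r⁻¹ * x * r⁻¹⁻¹)⁻¹ = a := by
        calc _ = r⁻¹ * (x * s) * x⁻¹ * r := by rw [hs]; group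
          _ = _ := by rw [ab x hx s e, hs]; group
      rwa [ha, ← conj_mul, t0.fixT.2 h1, mul_left_cancel_iff] at h2)))
  have tv : Tv X s := fun x hx y hy h2 h3 => k1 _ (by
    rw [show r⁻¹ * (x * y) * r = r⁻¹ * x * r * (r⁻¹ * y * r) by group]
    exact mul_mem_two t0.idx2 (inv_conj_mem_of_mem_normalizer rP (XP hx))
      (inv_conj_mem_of_mem_normalizer rP (XP hy)) (fun e => h2 (k1 _ e)) fun e => h3 (k1 _ e))
  have t : Tri T X z n s := ⟨h, c, z1, zz, hz, nN, nT, sP, sX, ss ▸ one_mem X,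
    fun x hx y hy => tv x hx.1 y hy.1⟩
  have tv' := tv.conj fun v hv => conj_mem_of_mem_normalizer (inv_mem nN) hv
  have m2 := Om.conj m1 sP.2
  obtain ⟨e1, e2, e3⟩ := t.swap
  have e4 := t.fixT.2 sP.1
  have e5 := t.back m1
  have n2 := t.ne2
  have n3 := t.ne'
  have s'T : n * s * n⁻¹ ∉ T := fun e => nT (h.ti c nN sP.1 sX e)
  generalize n * s * n⁻¹ = s' at *
  generalize hz' : n * z * n⁻¹ = z' at *
  generalize hz'' : s * z' * s⁻¹ = z'' at *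
  have md := mul_mem m1 m2
  have ead : a * (z' * z'') = z * z'' := by rw [ha, mul_assoc, ← mul_assoc z', m1.2.2, one_mul]
  have f1 : s * a * s⁻¹ = a * (z' * z'') := by rw [ead, ha, ← conj_mul, e4, hz'']
  have f2 : s * (z' * z'') * s⁻¹ = z' * z'' := by rw [← conj_mul, e5, hz'', Om.comm m1 m2.1]
  have f3 : s' * (a * (z' * z'')) * s'⁻¹ = a * (z' * z'') := by
    rw [ead, ← conj_mul, e1, e3, Om.comm m0 m2.1]
  have g1 : s * a * s⁻¹ ≠ a := fun e => n3 (by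
    rwa [f1, ead, ha, mul_left_cancel_iff] at e)
  have g2 : s * (a * (z' * z'')) * s⁻¹ ≠ a * (z' * z'') := fun e => g1 (by
    rwa [← conj_mul, f2, mul_right_cancel_iff] at e)
  have g3 : s' * a * s'⁻¹ ≠ a := fun e => n2 (by
    rwa [ha, ← conj_mul, e1, e2, mul_right_cancel_iff] at e)
  have g4 : s' * (z' * z'') * s'⁻¹ ≠ z' * z'' := fun e => n2 (by
    rw [← conj_mul, e2, e3, mul_left_cancel_iff] at e; exact e.symm)
  have mB : ∀ {y}, y ∈ X → s * y * s⁻¹ = y → s' * y * s'⁻¹ = y → y ∈ X ⊓ 𝐙[s] ⊓ 𝐙[s'] :=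
    fun hy h1 h2 => ⟨⟨hy, mem_centralizer_singleton_iff.2 (mul_inv_eq_iff_eq_mul.1 h1).symm⟩,
      mem_centralizer_singleton_iff.2 (mul_inv_eq_iff_eq_mul.1 h2).symm⟩
  have l : Loc T X (X ⊓ 𝐙[s] ⊓ 𝐙[s']) a (z' * z'') s :=
    { pg := c.syl.pgrp, XT := c.XT, ab := ab, aX := ma.1, dX := md.1, aa := ma.2.2, ss := ss
      dd := md.2.2, sa := f1, sT := sP.1, sN := sP.2, BX := fun _ e => e.1.1
      d1 := fun e => g1 (by rw [f1, e, mul_one])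
      Bs := fun _ e => mem_centralizer_singleton_iff.1 e.1.2
      dB := fun e => g4 (by rw [← mem_centralizer_singleton_iff.1 e.2, mul_inv_cancel_right])
      nor := fun p h1 h2 => t.two ⟨h1, h2⟩
      dec := fun y hy => by
        by_cases h1 : s * y * s⁻¹ = y <;> by_cases h2 : s' * y * s'⁻¹ = y
        · exact Or.inl (mB hy h1 h2)
        · exact Or.inr (Or.inr (Or.inl (mB (mul_mem md.1 hy) (by rw [← conj_mul, f2, h1])
            (tv' _ md.1 _ hy g4 h2))))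
        · exact Or.inr (Or.inr (Or.inr (mB (mul_mem (mul_mem ma.1 md.1) hy)
            (tv _ (mul_mem ma.1 md.1) _ hy g2 h1) (by rw [← conj_mul, f3, h2]))))
        · exact Or.inr (Or.inl (mB (mul_mem ma.1 hy) (tv _ ma.1 _ hy g1 h1)
            (tv' _ ma.1 _ hy g3 h2))) }
  have hR : DD a (a * s) ⊔ (X ⊓ 𝐙[s] ⊓ 𝐙[s']) = T ⊓ 𝐍[X] := by
    refine le_antisymm (sup_le (sup_le (zpowers_le.2 (mul_mem (XP ma.1) sP))
      (zpowers_le.2 (XP ma.1))) (l.BX.trans XP)) fun p hp => (t.two hp).elim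
      (fun e => l.XR' (mem_zpowers _) e) fun e => (mul_mem_cancel_left (mem_sup_left ?_)).1
        (l.XR' (mem_zpowers _) e)
    exact (mul_mem_cancel_left (mem_sup_right (mem_zpowers a))).1 (mem_sup_left (mem_zpowers _))
  refine ⟨T, X, _, a, _, s, r, a * s, c.syl, l, ⟨rT, by rw [← mul_assoc, ma.2.2, one_mul, hs],
    mem_zpowers _, fun β hβ => mem_normalizer_zpowers ?_, hR ▸ rr, hR ▸ rP⟩, t.card_X,
    fun β hβ e => ?_, fun g => h.uq c (lt_of_le_of_ne le_sup_left fun e =>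
      sX (e ▸ mem_sup_right (mem_zpowers s))) (sup_le c.XT (zpowers_le.2 sP.1))⟩
  · rw [← mul_assoc, ab β hβ.1.1 a ma.1, mul_assoc a, l.Bs β hβ, ← mul_assoc, mul_inv_cancel_right]
    exact mem_zpowers _
  · by_contra hn
    exact s'T (h.cent_eq c.syl hn e ▸ mem_centralizer_singleton_iff.2
      (mem_centralizer_singleton_iff.1 hβ.2).symm)

end Cfsg.Agent.Len
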