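import Cfsg.Agent.Len.N4
import Cfsg.Agent.S0206

/-! The Sylow 2-subgroup of a simple group of length eight with `|S| = 128` is dihedral. -/

set_option autoImplicit false

namespace Cfsg.Agent.Len

open Subgroup Cfsg.Agent.PLocal.Amb

variable {G : Type*} [Group G]

/-- elements centralizing or inverting `σ` -/
def Pm (σ : G) : Subgroup G where
  carrier := {g | g * σ * g⁻¹ = σ ∨ g * σ * g⁻¹ = σ⁻¹}
  one_mem' := Or.inl (by simp)
  mul_mem' := by
    intro x y hx hy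
    have e : x * y * σ * (x * y)⁻¹ = x * (y * σ * y⁻¹) * x⁻¹ := by group
    rcases hy with hy | hy <;> rw [hy] at e
    · exact hx.imp e.trans e.trans
    · rw [← conj_inv] at e
      exact hx.symm.imp (fun h => by rw [e, h, inv_inv]) fun h => by rw [e, h]
  inv_mem' := by
    rintro x (hx | hx)
    · exact Or.inl (by nth_rewrite 1 [← hx]; group)
    · exact Or.inr (by
        rw [← inv_inj, conj_inv]; nth_rewrite 1 [← hx]; group)

variable [Finite G] {T X B : Subgroup G} {a d s r σ : G}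

theorem pow_of_not_pm (h8 : orderOf σ = 8) {g : G} (hg : g ∈ 𝐍[zpowers σ]) (h : g ∉ Pm σ) :
    g * σ * g⁻¹ = σ ^ 3 ∨ g * σ * g⁻¹ = σ ^ 5 := by
  classical
  obtain ⟨i, hi, e⟩ := Finset.mem_image.1 (mem_zpowers_iff_mem_range_orderOf.1
    (conj_mem_of_mem_normalizer hg (mem_zpowers σ)))
  have h1 : σ ^ 8 = 1 := h8 ▸ pow_orderOf_eq_one σ
  have h2 : ¬ 2 ∣ i := by
    rintro ⟨j, rfl⟩
    have : g * σ ^ 4 * g⁻¹ = 1 := by
      rw [← conj_pow, ← e, ← pow_mul, show 2 * j * 4 = 8 * j by ring, pow_mul, h1, one_pow]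
    exact pow_ne_one_of_lt_orderOf (x := σ) (n := 4) (by omega) (by omega) (by simpa using this)
  rw [h8, Finset.mem_range] at hi
  have : i = 1 ∨ i = 3 ∨ i = 5 ∨ i = 7 := by omega
  rcases this with rfl | rfl | rfl | rfl
  · exact absurd (Or.inl (by rw [← e, pow_one])) h
  · exact Or.inl e.symm
  · exact Or.inr e.symm
  · exact absurd (Or.inr (by rw [← e, eq_inv_iff_mul_eq_one, ← pow_succ, h1])) h

theorem relIndex_pm (h8 : orderOf σ = 8) (hT : T ≤ 𝐍[zpowers σ]) {w : G} (hw : w ∈ T)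
    (h : w ∉ Pm σ) : (Pm σ).relIndex T = 2 := by
  refine relIndex_two hw h fun x hx => or_iff_not_imp_left.2 fun h1 => ?_
  have h2 : σ ^ 8 = 1 := h8 ▸ pow_orderOf_eq_one σ
  have e : w * x * σ * (w * x)⁻¹ = w * (x * σ * x⁻¹) * w⁻¹ := by group
  have e1 : σ ^ 15 = σ⁻¹ := by
    rw [eq_inv_iff_mul_eq_one, ← pow_succ, show 15 + 1 = 8 * 2 from rfl, pow_mul, h2, one_pow]
  rcases pow_of_not_pm h8 (hT hx) h1 with e2 | e2 <;> rw [e2, ← conj_pow] at e <;>
    rcases pow_of_not_pm h8 (hT hw) h with e3 | e3 <;> rw [e3, ← pow_mul] at e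
  · exact Or.inl (by rw [e, show 3 * 3 = 8 + 1 from rfl, pow_succ, h2, one_mul])
  · exact Or.inr (e.trans e1)
  · exact Or.inr (e.trans e1)
  · exact Or.inl (by rw [e, show 5 * 5 = 8 * 3 + 1 from rfl, pow_succ, pow_mul, h2, one_pow, one_mul])

namespace Loc

variable (h : Loc T X B a d s)
include h

omit [Finite G] in
theorem mem_Bd {y : G} (hy : y ∈ X) (hs : y * s = s * y) : y ∈ B ∨ d * y ∈ B := by
  rcases h.dec y hy with e | e | e | e
  · exact Or.inl e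
  · have := h.Bs _ e
    rw [mul_assoc, hs, ← mul_assoc, ← mul_assoc, mul_right_cancel_iff] at this
    exact absurd this.symm h.as_ne
  · exact Or.inr e
  · have := h.Bs _ e
    rw [mul_assoc, hs, mul_assoc a, ← mul_assoc d, ← h.sd, mul_assoc s, mul_assoc a, ← mul_assoc,
      ← mul_assoc s, mul_right_cancel_iff] at this
    exact absurd this.symm h.as_ne

omit [Finite G] in
theorem dN : d ∈ 𝐍[B] := centralizer_le_normalizer' B fun β hβ => h.ab β (h.BX hβ) d h.dX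

theorem card_B (hX : Nat.card X ≤ 16) : Nat.card B ≤ 4 := by
  have h1 : B < B ⊔ zpowers d :=
    lt_of_le_of_ne le_sup_left fun e => h.dB (e ▸ mem_sup_right (mem_zpowers d))
  have h2 : B ⊔ zpowers d < X := lt_of_le_of_ne (sup_le h.BX (zpowers_le.2 h.dX)) fun e =>
    h.as_ne (mem_centralizer_singleton_iff.1 ((sup_le
      (fun β hβ => mem_centralizer_singleton_iff.2 (h.Bs β hβ))
      (zpowers_le.2 (mem_centralizer_singleton_iff.2 h.sd.symm)) : _ ≤ 𝐙[s]) (e ▸ h.aX))).symm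
  have := ((Ch.one h1).step h2).card_le
  omega

omit [Finite G] in
theorem cP {β : G} (hβ : β ∈ B) : ∀ t ∈ X ⊔ zpowers s, t * β = β * t := fun _ ht =>
  mem_centralizer_singleton_iff.1 ((sup_le
    (fun x hx => mem_centralizer_singleton_iff.2 (h.ab x hx β (h.BX hβ)))
    (zpowers_le.2 (mem_centralizer_singleton_iff.2 (h.Bs β hβ).symm)) : _ ≤ 𝐙[β]) ht)

variable (w : Tw T B a s r σ) (hT : DD a σ ⊔ B ⊔ zpowers r = T)
include w hT

theorem exists_central (h4 : Nat.card B = 4) (hc : ∀ β ∈ B, β * σ * β⁻¹ = σ) :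
    ∃ β ∈ B, β ≠ 1 ∧ T ≤ 𝐙[β] := by
  have h1 : B ≤ 𝐂[DD a σ ⊔ B] := le_centralizer_iff.1 (sup_le (sup_le
    (zpowers_le.2 fun β hβ => mul_inv_eq_iff_eq_mul.1 (hc β hβ))
    (zpowers_le.2 fun β hβ => h.ab β (h.BX hβ) a h.aX)) fun x hx β hβ =>
      h.ab β (h.BX hβ) x (h.BX hx))
  have h2 : cj(r, B) ≤ 𝐂[DD a σ ⊔ B] :=
    cj_le_of_mem_normalizer h1 (normalizer_le_normalizer_centralizer _ w.rN)
  have h3 : B ⊔ cj(r, B) ≤ B ⊔ zpowers d := sup_le le_sup_left fun y hy =>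
    (mem_ext h.dN (h.dd ▸ one_mem _)).2 (h.mem_Bd (h.cent h.aX h.as_ne
      (cj_le_of_mem (h.BX.trans h.XT) w.rT hy) (h2 hy a (h.XR w h.aX)).symm)
      (h2 hy s (mem_sup_left w.sD)).symm)
  have h5 := card_le_of_le h3
  rw [card_two le_sup_left (relIndex_ext h.dN (h.dd ▸ one_mem _) h.dB), h4] at h5
  have hR : DD a σ ⊔ B ≤ 𝐍[cj(r, B)] :=
    (le_centralizer_iff.1 h2).trans (centralizer_le_normalizer' _)
  have hR' : DD a σ ⊔ B ≤ 𝐍[B] := (le_centralizer_iff.1 h1).trans (centralizer_le_normalizer' _)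
  have h6 := Grp.card_sup_mul_card_inf_of_le_normalizer (le_sup_right.trans hR)
  have h7 : B ⊓ cj(r, B) ≠ ⊥ := fun e => by
    rw [e, card_bot, card_cj, h4] at h6
    omega
  have h8 : T ≤ 𝐍[B ⊓ cj(r, B)] := hT ▸ sup_le (le_normalizer_inf hR' hR) (zpowers_le.2 (by
    rw [← cj_eq_iff, cj_inf, ← cj_mul, cj_of_mem_normalizer (hR' w.rr), inf_comm]))
  obtain ⟨⟨β, hβ⟩, h9⟩ := ne_bot_iff_exists_ne_one.1 (inf_centralizer_ne_bot h.pg
    (h.pg.to_le (inf_le_left.trans (h.BX.trans h.XT))) h8 h7)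
  exact ⟨β, hβ.1.1, fun e => h9 (Subtype.ext e), fun t ht =>
    mem_centralizer_singleton_iff.2 (hβ.2 t ht)⟩

theorem B_eq_bot (hG : commutator G = ⊤) (ho : Odd T.index) (hc : Nat.card T = 2 ^ 7)
    (hX : Nat.card X ≤ 16) (hB : ∀ β ∈ B, T ≤ 𝐙[β] → β = 1)
    (hu : ∀ g, cj(g, X ⊔ zpowers s) ≤ T → g ∈ T) : B = ⊥ := by
  have PT : X ⊔ zpowers s ≤ T := sup_le h.XT (zpowers_le.2 h.sT)
  have c1 := h.card_Q w
  have c2 := h.card_D w
  have c3 := Grp.card_mul_relIndex_of_le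
    (le_sup_left.trans (h.RT w) : DD a σ ≤ T)
  rw [hT, hc] at c1
  obtain ⟨k, hk⟩ := (h.pg.to_le (h.BX.trans h.XT)).exists_card_eq
  have c4 := h.card_B hX
  have : k ≤ 2 := by
    rw [hk, show 4 = 2 ^ 2 from rfl, Nat.pow_le_pow_iff_right one_lt_two] at c4
    exact c4
  interval_cases k
  · exact card_eq_one.1 hk
  · exfalso
    obtain ⟨⟨t, ht⟩, t1⟩ := ne_bot_iff_exists_ne_one.1 (show B ≠ ⊥ from fun e => by
      rw [e, card_bot] at hk; omega)
    have tt : t * t = 1 := by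
      have := congrArg Subtype.val (pow_card_eq_one' (x := (⟨t, ht⟩ : B)))
      rwa [hk, pow_one, sq] at this
    refine t1 (Subtype.ext (h.BD_one w ht (mem_of_uniq' hG ho (hT ▸ h.QD w) (dvd_of_eq ?_) tt
      (h.pg.to_le PT) PT (h.cP ht) (mem_sup_left (h.BX ht)) hu)))
    rw [hk] at c1
    rw [hc, show Nat.card (DD a σ) = 32 by omega] at c3
    omega
  exfalso
  have h8 : orderOf σ = 8 := by rw [hk] at c1; omega
  by_cases h1 : ∀ β ∈ B, β * σ * β⁻¹ = σ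
  · obtain ⟨β, hβ, h2, h3⟩ := h.exists_central w hT hk h1
    exact h2 (hB β hβ h3)
  push Not at h1
  obtain ⟨β, hβ, h1⟩ := h1
  have h2 : β ∉ Pm σ := fun e => e.elim h1 fun e => h.d1 (by
    obtain ⟨i, e'⟩ := w.sZ
    have e2 : β * (a * s) * β⁻¹ = (a * s)⁻¹ := by
      rw [← e']; simp only; rw [← conj_zpow, e, inv_zpow]
    rw [← mul_assoc, h.ab β (h.BX hβ) a h.aX, mul_assoc a, h.Bs β hβ, ← mul_assoc,
      mul_inv_cancel_right] at e2
    rw [← h.as_sq]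
    nth_rewrite 1 [e2]
    simp)
  have h3 := relIndex_pm h8 (hT ▸ h.QZ w) (h.XT (h.BX hβ)) h2
  have key : ∀ β ∈ B, (β * β = 1 ∨ ∀ c ∈ T, c * c = 1 → c ∈ Pm σ) → β ∈ Pm σ := fun β hβ e =>
    mem_of_uniq hG ho h3 (by
      have := congrArg Subtype.val (pow_card_eq_one' (x := (⟨β, hβ⟩ : B)))
      rwa [hk, sq, pow_mul, sq, sq] at this) e (h.pg.to_le PT) PT (h.cP hβ)
      (mem_sup_left (h.BX hβ)) hu
  refine h2 (key β hβ (Or.inr fun c hc cc => ?_))
  by_cases hR : c ∈ DD a σ ⊔ B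
  · obtain ⟨δ, hδ, γ, hγ, rfl⟩ := h.memR w hR
    exact mul_mem ((sup_le (zpowers_le.2 (Or.inl (by group))) (zpowers_le.2
      (Or.inr (h.invZ w (mem_zpowers σ)))) : _ ≤ Pm σ) hδ)
      (key γ hγ (Or.inl (h.sq_one w hδ hγ cc)))
  · exact Or.inr (h.inverts w (hT ▸ hc) hR cc)

theorem sq_mem (hB : B = ⊥) {y : G} (hy : y ∈ T) : y * y ∈ zpowers σ := by
  subst hB
  by_cases hR : y ∈ DD a σ ⊔ ⊥
  · rcases (h.memD w).1 (by simpa using hR) with e | e
    · exact mul_mem e e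
    · have := h.invZ w e
      rw [show y * y = a⁻¹ * (a * y) * a⁻¹ * (a * y) by group, h.ai]
      nth_rewrite 3 [← h.ai]
      rw [this, inv_mul_cancel]
      exact one_mem _
  have h1 : y * y ∈ DD a σ ⊔ ⊥ := mul_mem_two (h.idx w) (hT ▸ hy) (hT ▸ hy) hR hR
  refine ((h.memD w).1 (by simpa using h1)).resolve_right fun e => hR ?_
  obtain ⟨q, hq, e'⟩ := h.trans w e
  rw [← mul_assoc, h.aa, one_mul] at e'
  have hq' : q ∈ 𝐍[DD a σ ⊔ ⊥] := sup_le le_normalizer (zpowers_le.2 w.rN) hq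
  have := conj_mem_of_mem_normalizer hq' (h.XR w (h.cent (g := q⁻¹ * y * q) h.aX h.as_ne
    (mul_mem (mul_mem (inv_mem (h.QT w hq)) hy) (h.QT w hq)) (by
      calc q⁻¹ * y * q * a = q⁻¹ * (y * (q * a * q⁻¹)) * q := by group
        _ = q⁻¹ * (q * a * q⁻¹ * y) * q := by rw [e', mul_assoc y]
        _ = _ := by group)))
  rwa [show q * (q⁻¹ * y * q) * q⁻¹ = y by group] at this

theorem exists_four (hB : B = ⊥) : ∃ y ∈ T, y ∉ DD a σ ⊔ B ∧ y * y * (y * y) = 1 := by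
  obtain ⟨k, hk⟩ := isPGroup_iff.1 h.pg σ (h.σT w)
  have key : ∀ y ∈ T, y ∉ DD a σ ⊔ B → y * y ∈ zpowers (σ * σ) → y * y * (y * y) = 1 := by
    intro y hy hR e
    obtain ⟨τ, hτ, e1⟩ := h.Qa w (hT ▸ hy) hR
    have h1 := h.sq_mem w hT hB hy
    have h2 : y * y ∈ zpowers (τ * τ) := zpowers_le.2 (sq_mem_sq (hτ ▸ mem_zpowers σ)) e
    have hτZ : τ ∈ zpowers σ := hτ ▸ mem_zpowers τ
    have h3 : y * τ * y⁻¹ = τ⁻¹ * (y * y * (y * y))⁻¹ := by
      have := h.invZ w (inv_mem h1)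
      calc y * τ * y⁻¹ = (y * a * y⁻¹)⁻¹ * (y * (a * τ) * y⁻¹) := by group
        _ = (a * τ)⁻¹ * (y * y * a * (y * y)⁻¹) := by rw [← e1]; group
        _ = _ := by rw [inv_inv] at this; nth_rewrite 1 [← this]; group
    obtain ⟨m, e2⟩ := h2
    simp only at e2
    have c1 : Commute τ⁻¹ (y * y * (y * y))⁻¹ := comm_Z (inv_mem hτZ) (inv_mem (mul_mem h1 h1))
    have h4 : y * y = (y * y)⁻¹ * ((y * y * (y * y))⁻¹ * (y * y * (y * y))⁻¹) ^ m := by
      calc y * y = y * (τ * τ) ^ m * y⁻¹ := by rw [e2]; group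
        _ = (τ⁻¹ * τ⁻¹) ^ m * ((y * y * (y * y))⁻¹ * (y * y * (y * y))⁻¹) ^ m := by
          rw [← conj_zpow, ← conj_mul, h3, c1.symm.mul_mul_mul_comm,
            ((c1.mul_left c1).mul_right (c1.mul_left c1)).mul_zpow]
        _ = _ := by rw [← mul_inv_rev, inv_zpow, e2]
    obtain ⟨j, hj⟩ := isPGroup_iff.1 h.pg _ (mul_mem (mul_mem hy hy) (mul_mem hy hy))
    refine eq_one_of_mem_sq hj ⟨-m, ?_⟩
    simp only
    rw [← inv_zpow', mul_inv_rev]
    exact (mul_eq_of_eq_inv_mul h4).symm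
  by_cases e : r * r ∈ zpowers (σ * σ)
  · exact ⟨r, w.rT, h.rR w, key r w.rT (h.rR w) e⟩
  have h1 : a * r ∉ DD a σ ⊔ B := fun e' => h.rR w ((mul_mem_cancel_left (h.XR w h.aX)).1 e')
  refine ⟨a * r, mul_mem (h.XT h.aX) w.rT, h1, key _ (mul_mem (h.XT h.aX) w.rT) h1 ?_⟩
  rw [show a * r * (a * r) = a * (r * a * r⁻¹) * (r * r) by group, w.ra, ← mul_assoc a, h.aa,
    one_mul]
  obtain ⟨i, e'⟩ := h.sq_mem w hT hB w.rT
  rw [← e'] at e ⊢
  rcases Int.even_or_odd' i with ⟨m, rfl | rfl⟩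
  · exact absurd ⟨m, by simp only [zpow_mul, zpow_two]⟩ e
  · exact ⟨m + 1, by simp only [← zpow_two, ← zpow_mul]; group⟩

end Loc

theorem Hy.dihedral (h : Hy G) : ∃ (T : Subgroup G) (n : ℕ), IsSyl 2 T ⊤ ∧ 2 ≤ n ∧
    Nonempty (T ≃* DihedralGroup n) := by
  have := h.simple
  have hG := perfect_of_simple h.na
  obtain ⟨T, X, B, a, d, s, r0, σ0, hT, l, w0, hX, hB, hu⟩ := h.exists_loc
  obtain ⟨r, σ, w, e⟩ := l.exists_top w0
  have ho : Odd T.index := by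
    rw [← relIndex_top_right, ← Nat.not_even_iff_odd, even_iff_two_dvd]
    exact hT.not_dvd_relIndex
  have hb := l.B_eq_bot w e hG ho (h.card T hT) hX hB hu
  have a1 : a ≠ 1 := fun e => l.as_ne (by simp [e])
  by_cases hc : ∀ c ∈ T, c * c = 1 → c ∈ DD a σ ⊔ B
  · exfalso
    obtain ⟨y, hy, h1, h2⟩ := l.exists_four w e hb
    have y1 : y * y ≠ 1 := fun e => h1 (hc y hy e)
    have key : ∀ g, g * (y * y) * g⁻¹ ∈ zpowers σ → g * (y * y) * g⁻¹ = y * y := fun g hg =>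
      eq_of_sq_zpowers hg (l.sq_mem w e hb hy) (by rw [conj_mul, h2, mul_one, mul_inv_cancel]) h2
        (by simpa using y1) y1
    have h3 := h.cent_eq hT y1 fun g hg => mem_Z.2 (key g
      (conj_mem_of_mem_normalizer (l.QZ w (e ▸ hg)) (l.sq_mem w e hb hy)))
    refine h1 (mem_of_uniq hG ho (e ▸ l.idx w) h2 (Or.inr hc) (l.pg.to_le (zpowers_le.2 hy))
      (zpowers_le.2 hy) (fun t ht => comm_Z ht (mem_zpowers y)) (mem_zpowers y) fun g hg => ?_)
    rw [← h3, mem_Z]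
    exact key g (by rw [← conj_mul]; exact l.sq_mem w e hb (hg (conj_mem_cj g (mem_zpowers y))))
  push Not at hc
  obtain ⟨c, hc, cc, h1⟩ := hc
  have aR := l.XR w l.aX
  have ac : a ≠ c := fun e => h1 (e ▸ aR)
  have h2 : closure {a, c} = T := by
    have ha : a ∈ closure {a, c} := subset_closure (by simp)
    have hc' : c ∈ closure {a, c} := subset_closure (by simp)
    obtain ⟨τ, hτ, e1⟩ := l.Qa w (e ▸ hc) h1
    have h3 : DD a σ ⊔ B ≤ closure {a, c} := by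
      rw [hb, sup_bot_eq, DD, ← hτ]
      exact sup_le (zpowers_le.2 ((mul_mem_cancel_left ha).1
        (e1 ▸ mul_mem (mul_mem hc' ha) (inv_mem hc')))) (zpowers_le.2 ha)
    refine le_antisymm ((closure_le _).2 (by
      rintro _ (rfl | rfl)
      · exact l.XT l.aX
      · exact hc)) fun x hx => ?_
    by_cases hx' : x ∈ DD a σ ⊔ B
    · exact h3 hx'
    · exact (mul_mem_cancel_left hc').1 (h3 (mul_mem_two (l.idx w) (e ▸ hc) (e ▸ hx) h1 hx'))
  refine ⟨T, orderOf (a * c), hT, ?_, h2 ▸ S0206.result a c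
    (orderOf_eq_prime (by rw [sq, l.aa]) a1)
    (orderOf_eq_prime (by rw [sq, cc]) fun e => h1 (e ▸ one_mem _)) ac⟩
  have h3 := orderOf_pos (a * c)
  have h4 : orderOf (a * c) ≠ 1 := fun e => ac (by
    rw [eq_inv_of_mul_eq_one_left (orderOf_eq_one_iff.1 e), inv_eq_of_mul_eq_one_right cc])
  omega

end Cfsg.Agent.Len
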